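/-
Groups with a Sylow `p`-subgroup whose normalizer controls fusion of its elements and whose elements
of order `p` have `p`-nilpotent centralisers (helper38).

* `Hyp.semiregular` : `p'`-elements of `N(P)` fixing a nontrivial element of `P` centralise `P`;
* `Hyp.pCore_eq_bot`, `Hyp.exists_simple` : the socle is a nonabelian simple group;
* `Hyp.le_of_moved`, `Hyp.le_of_inf_le_centralizer` : criteria for `P` to lie in it.
-/
import Cfsg.Agent.Lib.FrobSection.Sections
import Cfsg.Agent.Lib.Coprime.Invariant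
import Cfsg.Agent.Lib.Cores.Subnormal
import Cfsg.Agent.Lib.PGroup.Basic
import Cfsg.Agent.Lib.Signalizer.Transitivity
import Cfsg.Agent.EqLemmas

set_option autoImplicit false
set_option linter.style.haveILetI false
set_option linter.unusedSectionVars false

namespace Cfsg.Agent.LocalFusionSuz

open Cfsg Subgroup
open scoped Pointwise

universe u

variable {G : Type u} [Group G] [Finite G] {p : ℕ} [hp : Fact p.Prime]

/-- The hypotheses (a) and (b). -/
structure Hyp (P : Sylow p G) : Prop where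
  core : Cfsg.pPrimeCore p G = ⊥
  notNormal : ¬ (P : Subgroup G).Normal
  fus : ∀ x ∈ (P : Subgroup G), ∀ g : G, g * x * g⁻¹ ∈ (P : Subgroup G) →
    ∃ n ∈ normalizer ((P : Subgroup G) : Set G), n * x * n⁻¹ = g * x * g⁻¹
  cent : ∀ x ∈ (P : Subgroup G), orderOf x = p →
    HasNormalPComplement p ↥(centralizer ({x} : Set G))

/-! ### General lemmas -/

/-- A subgroup of a group with a normal `p`-complement has one. -/
theorem hasNormalPComplement_of_le {H K : Subgroup G} (h : HasNormalPComplement p K) (hle : H ≤ K) :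
    HasNormalPComplement p H :=
  Transfer.hasNormalPComplement_of_injective h (inclusion hle) (inclusion_injective hle)

theorem exists_conj_mem (P : Sylow p G) {y : G} (hy : ∃ k, orderOf y = p ^ k) :
    ∃ g : G, g * y * g⁻¹ ∈ (P : Subgroup G) := by
  obtain ⟨z, hz⟩ := FrobSection.exists_rep P y
  rw [FrobSection.pp_eq_self hy] at hz
  obtain ⟨g, hg⟩ := isConj_iff.1 hz
  exact ⟨g, hg ▸ z.2⟩

theorem centralizer_singleton_equiv (x g : G) :
    Nonempty (↥(centralizer ({x} : Set G)) ≃* ↥(centralizer ({g * x * g⁻¹} : Set G))) := by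
  refine ⟨((centralizer ({x} : Set G)).equivMapOfInjective (MulAut.conj g).toMonoidHom
    (MulAut.conj g).injective).trans (MulEquiv.subgroupCongr ?_)⟩
  ext w
  constructor
  · rintro ⟨v, hv, rfl⟩
    rw [SetLike.mem_coe, mem_centralizer_singleton_iff] at hv
    rw [mem_centralizer_singleton_iff]
    simp only [MulEquiv.coe_toMonoidHom, MulAut.conj_apply]
    calc g * v * g⁻¹ * (g * x * g⁻¹) = g * (v * x) * g⁻¹ := by group
      _ = g * (x * v) * g⁻¹ := by rw [hv]
      _ = g * x * g⁻¹ * (g * v * g⁻¹) := by group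
  · intro hw
    rw [mem_centralizer_singleton_iff] at hw
    refine ⟨g⁻¹ * w * g, mem_centralizer_singleton_iff.2 ?_,
      by simp only [MulEquiv.coe_toMonoidHom, MulAut.conj_apply]; group⟩
    calc g⁻¹ * w * g * x = g⁻¹ * (w * (g * x * g⁻¹)) * g := by group
      _ = g⁻¹ * (g * x * g⁻¹ * w) * g := by rw [hw]
      _ = x * (g⁻¹ * w * g) := by group

/-- A nontrivial `p`-element has a power of order `p`. -/
theorem exists_pow_orderOf {y : G} (hy : ∃ k, orderOf y = p ^ k) (hy1 : y ≠ 1) :
    ∃ m : ℕ, orderOf (y ^ m) = p := by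
  obtain ⟨k, hk⟩ := hy
  have hk0 : k ≠ 0 := by
    rintro rfl
    exact hy1 (orderOf_eq_one_iff.1 (by simpa using hk))
  exact ⟨_, orderOf_pow_orderOf_div (orderOf_pos y).ne' (hk ▸ dvd_pow_self p hk0)⟩

/-- In a group with a normal `p`-complement, elements of order prime to `p` normalising a
`p`-subgroup centralise it. -/
theorem centralizes_of_complement {C : Subgroup G} (h : HasNormalPComplement p C) {R : Subgroup G}
    (hR : IsPGroup p R) (hRC : R ≤ C) {y : G} (hyC : y ∈ C) (hy : y ∈ normalizer (R : Set G))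
    (hco : ¬ p ∣ orderOf y) : y ∈ centralizer (R : Set G) := by
  haveI : (pResidual p C).Normal := Transfer.pResidual_normal
  have hyk : (⟨y, hyC⟩ : C) ∈ pResidual p C :=
    (Transfer.mem_pResidual_iff h _).2 (by
      rw [Subgroup.orderOf_mk]; exact (hp.out.coprime_iff_not_dvd.2 hco).symm)
  refine mem_centralizer_iff.2 fun r hr => ?_
  let c : C := ⟨y, hyC⟩ * ⟨r, hRC hr⟩ * (⟨y, hyC⟩ : C)⁻¹ * (⟨r, hRC hr⟩ : C)⁻¹
  have hcK : c ∈ pResidual p C := by
    have h1 := (inferInstance : (pResidual p C).Normal).conj_mem _ (inv_mem hyk) ⟨r, hRC hr⟩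
    have h2 := mul_mem hyk h1
    convert h2 using 1
    simp only [c]
    group
  have hcR : (c : G) ∈ R := mul_mem ((mem_normalizer_iff.1 hy r).1 hr) (inv_mem hr)
  obtain ⟨k, hk⟩ := hR ⟨(c : G), hcR⟩
  have hc1 : (c : G) ^ p ^ k = 1 := congrArg Subtype.val hk
  have hco2 := (Transfer.mem_pResidual_iff h _).1 hcK
  rw [← Subgroup.orderOf_coe] at hco2
  have hone : orderOf (c : G) = 1 :=
    Nat.Coprime.eq_one_of_dvd (hco2.pow_right k) (orderOf_dvd_of_pow_eq_one hc1)
  have he : y * r * y⁻¹ * r⁻¹ = 1 := orderOf_eq_one_iff.1 hone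
  exact (mul_inv_eq_iff_eq_mul.1 (mul_inv_eq_one.1 he)).symm

/-- A `p'`-element normalising a `p`-group and centralising a subgroup containing its centraliser
in the `p`-group centralises the `p`-group. -/
theorem centralizes_of_selfCentralizing {P R : Subgroup G} (hP : IsPGroup p P) (hRP : R ≤ P)
    (hself : P ⊓ centralizer (R : Set G) ≤ R) {n : G} (hn : n ∈ normalizer (P : Set G))
    (hco : ¬ p ∣ orderOf n) (hnR : n ∈ centralizer (R : Set G)) : n ∈ centralizer (P : Set G) := by
  set S := P ⊓ centralizer ({n} : Set G) with hS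
  have hRS : R ≤ S := le_inf hRP fun r hr =>
    mem_centralizer_singleton_iff.2 (mem_centralizer_iff.1 hnR r hr)
  by_cases hSP : S = P
  · refine mem_centralizer_iff.2 fun r hr => ?_
    have hrS : r ∈ S := hSP.symm ▸ hr
    exact mem_centralizer_singleton_iff.1 hrS.2
  exfalso
  obtain ⟨u, huP, huN, huS⟩ := Signalizer.exists_mem_normalizer_not_mem hP inf_le_left hSP
  set c := u⁻¹ * n * u * n⁻¹ with hc
  have hcP : c ∈ P := by
    have h1 := mul_mem (inv_mem huP) ((mem_normalizer_iff.1 hn u).1 huP)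
    simpa only [hc, mul_assoc] using h1
  have hns : ∀ s ∈ S, n * s = s * n := fun s hs => (mem_centralizer_singleton_iff.1 hs.2).symm
  have hcS : c ∈ centralizer (S : Set G) := by
    refine mem_centralizer_iff.2 fun s hs => ?_
    have hs' : u * s * u⁻¹ ∈ S := (mem_normalizer_iff.1 huN s).1 hs
    have e1 := hns s hs
    have e2 := hns _ hs'
    have key : c * s * c⁻¹ = s := by
      calc c * s * c⁻¹ = u⁻¹ * n * u * (n⁻¹ * (s * n)) * u⁻¹ * n⁻¹ * u := by rw [hc]; group
        _ = u⁻¹ * n * u * (n⁻¹ * (n * s)) * u⁻¹ * n⁻¹ * u := by rw [e1]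
        _ = u⁻¹ * (n * (u * s * u⁻¹)) * n⁻¹ * u := by group
        _ = u⁻¹ * ((u * s * u⁻¹) * n) * n⁻¹ * u := by rw [e2]
        _ = s := by group
    exact (mul_inv_eq_iff_eq_mul.1 key).symm
  have hcR : c ∈ R := hself ⟨hcP, centralizer_le hRS hcS⟩
  have hcn : Commute c n := (mem_centralizer_iff.1 hnR c hcR : c * n = n * c)
  have hcu : u⁻¹ * n * u = c * n := by rw [hc]; group
  have hpow : c ^ orderOf n = 1 := by
    have h1 : (u⁻¹ * n * u) ^ orderOf n = 1 := by
      rw [show u⁻¹ * n * u = u⁻¹ * n * (u⁻¹)⁻¹ by rw [inv_inv], conj_pow, pow_orderOf_eq_one,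
        mul_one, mul_inv_cancel]
    rw [hcu, hcn.mul_pow, pow_orderOf_eq_one, mul_one] at h1
    exact h1
  obtain ⟨k, hk⟩ := IsPGroup.iff_orderOf.1 hP ⟨c, hcP⟩
  rw [Subgroup.orderOf_mk] at hk
  have hc1 : c = 1 := orderOf_eq_one_iff.1 (Nat.Coprime.eq_one_of_dvd
    (by rw [hk]; exact (hp.out.coprime_iff_not_dvd.2 hco).pow_left k) (orderOf_dvd_of_pow_eq_one hpow))
  rw [hc1, one_mul] at hcu
  refine huS ⟨huP, mem_centralizer_singleton_iff.2 ?_⟩
  calc u * n = u * (u⁻¹ * n * u) := by rw [hcu]
    _ = n * u := by group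

/-- A normal subgroup with a normal `p`-complement is a `p`-group when `O_{p'} = 1`. -/
theorem isPGroup_of_complement (hcore : Cfsg.pPrimeCore p G = ⊥) {N : Subgroup G} (hN : N.Normal)
    (h : HasNormalPComplement p N) : IsPGroup p N := by
  haveI := hN
  have h1 : Cfsg.pPrimeCore p N = ⊥ := by
    have h2 := Cores.pPrimeCore_map_subtype (G := G) N p
    rw [hcore, bot_inf_eq] at h2
    exact (map_eq_bot_iff_of_injective _ N.subtype_injective).1 h2
  obtain ⟨k, hk⟩ := Transfer.exists_index_pResidual (G := N) (p := p)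
  have hR : pResidual p N = ⊥ := le_bot_iff.1 (h1 ▸ Cores.le_pPrimeCore Transfer.pResidual_normal
    (Transfer.hasNormalPComplement_iff_coprime.1 h))
  rw [hR, index_bot] at hk
  exact IsPGroup.of_card hk

/-- The trace of a Sylow subgroup on a normal subgroup. -/
theorem exists_sylow_inf (P : Sylow p G) (E : Subgroup G) [E.Normal] :
    ∃ Q : Sylow p E, (Q : Subgroup E) = (P : Subgroup G).subgroupOf E ∧
      (Q : Subgroup E).map E.subtype = (P : Subgroup G) ⊓ E := by
  obtain ⟨Q, hQ⟩ := Cores.sylow_inf_isSubnormal P (Subgroup.Normal.isSubnormal (H := E) inferInstance)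
  exact ⟨Q, hQ, by rw [hQ, subgroupOf_map_subtype]⟩

variable {P : Sylow p G}

/-! ### Consequences of (a) and (b) -/

/-- Elements of `P` conjugate to a central element of `P` are central. -/
theorem Hyp.central_of_conj (hH : Hyp P) {x g : G} (hxP : x ∈ (P : Subgroup G))
    (hxC : x ∈ centralizer ((P : Subgroup G) : Set G)) (hg : g * x * g⁻¹ ∈ (P : Subgroup G)) :
    g * x * g⁻¹ ∈ centralizer ((P : Subgroup G) : Set G) := by
  obtain ⟨n, hn, he⟩ := hH.fus x hxP g hg
  rw [← he]
  refine mem_centralizer_iff.2 fun u hu => ?_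
  have hu' : n⁻¹ * u * n ∈ (P : Subgroup G) := (mem_normalizer_iff''.1 hn u).1 hu
  calc u * (n * x * n⁻¹) = n * (n⁻¹ * u * n * x) * n⁻¹ := by group
    _ = n * (x * (n⁻¹ * u * n)) * n⁻¹ := by rw [mem_centralizer_iff.1 hxC _ hu']
    _ = n * x * n⁻¹ * u := by group

/-- Centralisers of nontrivial `p`-elements have normal `p`-complements. -/
theorem Hyp.complement (hH : Hyp P) {y : G} (hy : ∃ k, orderOf y = p ^ k) (hy1 : y ≠ 1) :
    HasNormalPComplement p ↥(centralizer ({y} : Set G)) := by
  obtain ⟨m, hm⟩ := exists_pow_orderOf hy hy1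
  obtain ⟨g, hg⟩ := exists_conj_mem P (y := y ^ m) ⟨1, by rw [hm, pow_one]⟩
  have h := hH.cent _ hg (by rw [SecondMain.orderOf_conj, hm])
  obtain ⟨e⟩ := centralizer_singleton_equiv (y ^ m) g
  refine hasNormalPComplement_of_le (Transfer.hasNormalPComplement_of_equiv h e.symm) fun w hw => ?_
  have hc : Commute w y := mem_centralizer_singleton_iff.1 hw
  exact mem_centralizer_singleton_iff.2 (hc.pow_right m).eq

theorem orderOf_pow_of_mem (P : Sylow p G) {y : G} (hy : y ∈ (P : Subgroup G)) :
    ∃ k, orderOf y = p ^ k := by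
  obtain ⟨k, hk⟩ := IsPGroup.iff_orderOf.1 P.2 ⟨y, hy⟩
  exact ⟨k, by rwa [Subgroup.orderOf_mk] at hk⟩

/-- `p'`-elements of `N(P)` act semiregularly on `P`. -/
theorem Hyp.semiregular (hH : Hyp P) {n y : G} (hn : n ∈ normalizer ((P : Subgroup G) : Set G))
    (hco : ¬ p ∣ orderOf n) (hy : y ∈ (P : Subgroup G)) (hy1 : y ≠ 1) (hc : Commute n y) :
    n ∈ centralizer ((P : Subgroup G) : Set G) := by
  have hny : n ∈ centralizer ({y} : Set G) := mem_centralizer_singleton_iff.2 hc.eq
  set R := (P : Subgroup G) ⊓ centralizer ({y} : Set G) with hR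
  have hyR : y ∈ R := ⟨hy, mem_centralizer_singleton_iff.2 rfl⟩
  have hnR : n ∈ normalizer (R : Set G) := by
    refine mem_normalizer_iff.2 fun r => ?_
    simp only [hR, mem_inf]
    refine and_congr (mem_normalizer_iff.1 hn r) ⟨fun h => mul_mem (mul_mem hny h) (inv_mem hny),
      fun h => ?_⟩
    have := mul_mem (mul_mem (inv_mem hny) h) hny
    simpa [mul_assoc] using this
  have hRp : IsPGroup p R := P.2.to_le inf_le_left
  refine centralizes_of_selfCentralizing P.2 inf_le_left ?_ hn hco
    (centralizes_of_complement (hH.complement (orderOf_pow_of_mem P hy) hy1) hRp inf_le_right hny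
      hnR hco)
  rintro u ⟨huP, huR⟩
  exact ⟨huP, mem_centralizer_singleton_iff.2 (mem_centralizer_iff.1 huR y hyR).symm⟩

/-- `O_p(G) = 1`. -/
theorem Hyp.pCore_eq_bot (hH : Hyp P) : Cfsg.pCore p G = ⊥ := by
  by_contra hne
  set O := Cfsg.pCore p G with hO
  haveI : O.Normal := Cores.pCore_normal p G
  have hOP : O ≤ (P : Subgroup G) := Cores.pCore_le_sylow P
  have hne' : O.subgroupOf (P : Subgroup G) ≠ ⊥ := by
    rw [Ne, subgroupOf_eq_bot, disjoint_iff, inf_eq_left.2 hOP]
    exact hne
  have hne'' := PGroup.inf_center_ne_bot P.2 hne'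
  obtain ⟨z, hz, hz1⟩ := (bot_or_exists_ne_one _).resolve_left hne''
  rw [mem_inf, mem_subgroupOf] at hz
  have hzc : (z : G) ∈ centralizer ((P : Subgroup G) : Set G) :=
    mem_centralizer_iff.2 fun u hu => congrArg Subtype.val (mem_center_iff.1 hz.2 ⟨u, hu⟩)
  obtain ⟨m, hm⟩ := exists_pow_orderOf (orderOf_pow_of_mem P z.2) fun h => hz1 (Subtype.ext h)
  set x := (z : G) ^ m with hx
  have hxO : x ∈ O := pow_mem hz.1 m
  have hxC : x ∈ centralizer ((P : Subgroup G) : Set G) := pow_mem hzc m
  set A := normalClosure ({x} : Set G) with hA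
  have hAC : A ≤ centralizer ((P : Subgroup G) : Set G) := by
    refine (closure_le _).2 fun w hw => ?_
    rw [Group.mem_conjugatesOfSet_iff] at hw
    obtain ⟨_, rfl, hconj⟩ := hw
    obtain ⟨g, rfl⟩ := isConj_iff.1 hconj
    exact hH.central_of_conj (hOP hxO) hxC (hOP ((inferInstance : O.Normal).conj_mem _ hxO g))
  set C := centralizer (A : Set G) with hC
  haveI : A.Normal := normalClosure_normal
  haveI : C.Normal := Subgroup.normal_centralizer
  have hPC : (P : Subgroup G) ≤ C := fun u hu => mem_centralizer_iff.2 fun a ha =>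
    (mem_centralizer_iff.1 (hAC ha) u hu).symm
  have hCx : C ≤ centralizer ({x} : Set G) := fun u hu => mem_centralizer_singleton_iff.2
    (mem_centralizer_iff.1 hu x (subset_normalClosure (Set.mem_singleton x))).symm
  have hCp : IsPGroup p C := isPGroup_of_complement hH.core inferInstance
    (hasNormalPComplement_of_le (hH.cent x (hOP hxO) hm) hCx)
  exact hH.notNormal ((P.3 hCp hPC) ▸ inferInstance)

/-- A normal subgroup with a normal `p`-complement is trivial. -/
theorem Hyp.eq_bot_of_complement (hH : Hyp P) {N : Subgroup G} (hN : N.Normal)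
    (h : HasNormalPComplement p N) : N = ⊥ :=
  le_bot_iff.1 (hH.pCore_eq_bot ▸ Cores.le_pCore hN (isPGroup_of_complement hH.core hN h))

/-- The socle is a nonabelian simple group with trivial centraliser. -/
theorem Hyp.exists_simple (hH : Hyp P) : ∃ E : Subgroup G, E.Normal ∧ IsSimpleGroup E ∧
    ¬ IsMulCommutative E ∧ centralizer (E : Set G) = ⊥ ∧ p ∣ Nat.card E := by
  haveI : Nontrivial G := by
    by_contra h
    rw [not_nontrivial_iff_subsingleton] at h
    exact hH.notNormal ⟨fun x hx g => by rwa [Subsingleton.elim (g * x * g⁻¹) x]⟩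
  obtain ⟨E, hE, hE1, hmin⟩ := Cores.exists_minimal_normal (G := G)
  haveI := hE
  have hpE : p ∣ Nat.card E := by
    by_contra h
    exact hE1 (le_bot_iff.1 (hH.core ▸ Cores.le_pPrimeCore hE
      (hp.out.coprime_iff_not_dvd.2 h).symm))
  have hCE : centralizer (E : Set G) = ⊥ := by
    haveI : (centralizer (E : Set G)).Normal := Subgroup.normal_centralizer
    by_contra hne
    have hpC : p ∣ Nat.card (centralizer (E : Set G)) := by
      by_contra h
      exact hne (le_bot_iff.1 (hH.core ▸ Cores.le_pPrimeCore inferInstance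
        (hp.out.coprime_iff_not_dvd.2 h).symm))
    obtain ⟨y, hy⟩ := exists_prime_orderOf_dvd_card' p hpC
    rw [← Subgroup.orderOf_coe] at hy
    refine hE1 (hH.eq_bot_of_complement hE (hasNormalPComplement_of_le
      (hH.complement (y := (y : G)) ⟨1, by rw [hy, pow_one]⟩
        fun h => hp.out.one_lt.ne' (by rw [← hy, h, orderOf_one])) fun e he => ?_))
    exact mem_centralizer_singleton_iff.2 (mem_centralizer_iff.1 y.2 e he)
  haveI : Nontrivial E := (Subgroup.nontrivial_iff_ne_bot E).2 hE1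
  obtain ⟨M, hM, hM1, hMmin⟩ := Cores.exists_minimal_normal (G := E)
  haveI := hM
  have hsubE : E.IsSubnormal := Subgroup.Normal.isSubnormal inferInstance
  have hpM : p ∣ Nat.card M := by
    by_contra h
    have hsub : (M.map E.subtype).IsSubnormal :=
      Subgroup.IsSubnormal.step _ E (map_subtype_le M) hsubE
        (by rw [subgroupOf, comap_map_eq_self_of_injective E.subtype_injective]; exact hM)
    have h2 := Cores.le_pPrimeCore_of_isSubnormal hsub (p := p)
      (by rw [Cores.card_map_subtype]; exact (hp.out.coprime_iff_not_dvd.2 h).symm)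
    rw [hH.core, le_bot_iff] at h2
    exact hM1 ((map_eq_bot_iff_of_injective _ E.subtype_injective).1 h2)
  have hMtop : M = ⊤ := by
    by_contra hMt
    obtain ⟨g, hg⟩ : ∃ g : G, M.map (MulAut.conjNormal g : MulAut E).toMonoidHom ≠ M := by
      by_contra hall
      push Not at hall
      have hn : (M.map E.subtype).Normal := ⟨fun m hm g => by
        obtain ⟨v, hv, rfl⟩ := hm
        exact ⟨MulAut.conjNormal g v, (hall g).le (mem_map_of_mem _ hv), MulAut.conjNormal_apply g v⟩⟩
      rcases hmin _ hn (map_subtype_le M) with h | h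
      · exact hM1 ((map_eq_bot_iff_of_injective _ E.subtype_injective).1 h)
      · exact hMt (Subgroup.map_injective E.subtype_injective
          (by rw [h, ← MonoidHom.range_eq_map, range_subtype]))
    set φ : E →* E := (MulAut.conjNormal g : MulAut E).toMonoidHom with hφ
    haveI : (M.map φ).Normal := hM.map φ (MulAut.conjNormal g : MulAut E).surjective
    have hcard : Nat.card (M.map φ) = Nat.card M :=
      card_map_of_injective (MulAut.conjNormal g : MulAut E).injective
    have hdis : M ⊓ M.map φ = ⊥ := by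
      refine (hMmin _ inferInstance inf_le_left).resolve_right fun h => hg ?_
      exact (eq_of_le_of_card_ge (inf_eq_left.1 h) hcard.le).symm
    obtain ⟨y, hy⟩ := exists_prime_orderOf_dvd_card' p (hcard.symm ▸ hpM : p ∣ Nat.card (M.map φ))
    rw [← Subgroup.orderOf_coe, ← Subgroup.orderOf_coe] at hy
    set MG := M.map E.subtype with hMG
    have hcompl : HasNormalPComplement p ↥MG := hasNormalPComplement_of_le
      (hH.complement (y := (((y : M.map φ) : E) : G)) ⟨1, by rw [hy, pow_one]⟩
        fun h => hp.out.one_lt.ne' (by rw [← hy, h, orderOf_one])) (by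
          rintro _ ⟨m, hm, rfl⟩
          refine mem_centralizer_singleton_iff.2 ?_
          exact congrArg Subtype.val (Subgroup.commute_of_normal_of_disjoint M (M.map φ) hM
            inferInstance (disjoint_iff.2 hdis) m (y : E) hm y.2).eq)
    -- the complement is subnormal, hence trivial
    have hsub : MG.IsSubnormal := Subgroup.IsSubnormal.step _ E (map_subtype_le M) hsubE
      (by rw [hMG, subgroupOf, comap_map_eq_self_of_injective E.subtype_injective]; exact hM)
    set R := (pResidual p MG).map MG.subtype with hR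
    have hRsub : R.IsSubnormal := Subgroup.IsSubnormal.step _ MG (map_subtype_le _) hsub
      (by rw [hR, subgroupOf, comap_map_eq_self_of_injective MG.subtype_injective]
          exact Transfer.pResidual_normal)
    have hRb : pResidual p MG = ⊥ := by
      refine (map_eq_bot_iff_of_injective _ MG.subtype_injective).1 (le_bot_iff.1 (hH.core ▸ ?_))
      exact Cores.le_pPrimeCore_of_isSubnormal hRsub (by
        rw [Cores.card_map_subtype]; exact Transfer.hasNormalPComplement_iff_coprime.1 hcompl)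
    obtain ⟨k, hk⟩ := Transfer.exists_index_pResidual (G := MG) (p := p)
    rw [hRb, index_bot] at hk
    have h2 := Cores.le_pCore_of_isSubnormal hsub (IsPGroup.of_card hk)
    rw [hH.pCore_eq_bot, le_bot_iff] at h2
    exact hM1 ((map_eq_bot_iff_of_injective _ E.subtype_injective).1 h2)
  have hsimple : IsSimpleGroup E := ⟨fun N hN => by
    rcases hMmin N hN (hMtop ▸ le_top) with h | h
    · exact Or.inl h
    · exact Or.inr (h.trans hMtop)⟩
  refine ⟨E, hE, hsimple, fun hab => hE1 ?_, hCE, hpE⟩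
  refine le_bot_iff.1 (hCE ▸ fun e he => mem_centralizer_iff.2 fun f hf => ?_)
  exact congrArg Subtype.val (hab.1.1 ⟨f, hf⟩ ⟨e, he⟩)

/-! ### Criteria for `P ≤ E` -/

/-- The powers `e ^ i` normalising `V` and a product with an element centralising it. -/
theorem mul_pow_mem_centralizer {V : Subgroup G} {c e : G} (hc : c ∈ centralizer (V : Set G))
    (he : e ∈ normalizer (V : Set G)) (i : ℕ) : (c * e) ^ i * (e ^ i)⁻¹ ∈ centralizer (V : Set G) := by
  induction i with
  | zero => simp
  | succ i ih =>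
    have hei : e ^ i ∈ normalizer (V : Set G) := pow_mem he i
    have hconj : e ^ i * c * (e ^ i)⁻¹ ∈ centralizer (V : Set G) := mem_centralizer_iff.2 fun v hv => by
      have hv' : (e ^ i)⁻¹ * v * e ^ i ∈ V := (mem_normalizer_iff''.1 hei v).1 hv
      calc v * (e ^ i * c * (e ^ i)⁻¹) = e ^ i * (((e ^ i)⁻¹ * v * e ^ i) * c) * (e ^ i)⁻¹ := by group
        _ = e ^ i * (c * ((e ^ i)⁻¹ * v * e ^ i)) * (e ^ i)⁻¹ := by rw [mem_centralizer_iff.1 hc _ hv']
        _ = e ^ i * c * (e ^ i)⁻¹ * v := by group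
    have h2 : (c * e) ^ (i + 1) * (e ^ (i + 1))⁻¹ =
        (c * e) ^ i * (e ^ i)⁻¹ * (e ^ i * c * (e ^ i)⁻¹) := by
      rw [pow_succ, pow_succ, mul_inv_rev]
      group
    rw [h2]
    exact mul_mem ih hconj

/-- If an element of `E` of order prime to `p` moves a subgroup central in `P`, then
`P ≤ E`. -/
theorem Hyp.le_of_moved (hH : Hyp P) {E : Subgroup G} (hE : E.Normal) {V : Subgroup G}
    (hVP : V ≤ (P : Subgroup G))
    (hVC : V ≤ centralizer ((P : Subgroup G) : Set G)) {e : G} (he : e ∈ E)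
    (heN : e ∈ normalizer (V : Set G)) (hco : ¬ p ∣ orderOf e) (hmove : e ∉ centralizer (V : Set G)) :
    (P : Subgroup G) ≤ E := by
  by_contra hPE
  haveI := hE
  set K := E ⊓ centralizer (V : Set G) with hK
  have hPV : (P : Subgroup G) ≤ centralizer (V : Set G) := fun u hu => mem_centralizer_iff.2 fun v hv =>
    (mem_centralizer_iff.1 (hVC hv) u hu).symm
  have hPK : (P : Subgroup G) ≤ normalizer (K : Set G) := fun u hu => by
    refine mem_normalizer_iff.2 fun w => ?_
    simp only [hK, mem_inf]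
    refine and_congr ⟨fun h => hE.conj_mem w h u, fun h => ?_⟩
      ⟨fun h => mul_mem (mul_mem (hPV hu) h) (inv_mem (hPV hu)), fun h => ?_⟩
    · simpa [mul_assoc] using hE.conj_mem _ h u⁻¹
    · simpa [mul_assoc] using mul_mem (mul_mem (inv_mem (hPV hu)) h) (hPV hu)
  set C1 := (P : Subgroup G) ⊔ K with hC1
  have hC1V : C1 ≤ centralizer (V : Set G) := sup_le hPV inf_le_right
  have heP : ((e • P : Sylow p G) : Subgroup G) ≤ C1 := by
    intro w hw
    rw [Sylow.coe_subgroup_smul, Subgroup.mem_smul_pointwise_iff_exists] at hw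
    obtain ⟨u, hu, rfl⟩ := hw
    rw [MulAut.smul_def, MulAut.conj_apply]
    have h1 : e * u * e⁻¹ ∈ centralizer (V : Set G) := mem_centralizer_iff.2 fun v hv => by
      have hv' : e⁻¹ * v * e ∈ V := (mem_normalizer_iff''.1 heN v).1 hv
      calc v * (e * u * e⁻¹) = e * ((e⁻¹ * v * e) * u) * e⁻¹ := by group
        _ = e * (u * (e⁻¹ * v * e)) * e⁻¹ := by rw [mem_centralizer_iff.1 (hPV hu) _ hv']
        _ = e * u * e⁻¹ * v := by group
    have h2 : e * u * e⁻¹ * u⁻¹ ∈ K := by
      refine Subgroup.mem_inf.2 ⟨?_, mul_mem h1 (inv_mem (hPV hu))⟩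
      have := mul_mem he (hE.conj_mem _ (inv_mem he) u)
      simpa only [mul_assoc] using this
    rw [show e * u * e⁻¹ = e * u * e⁻¹ * u⁻¹ * u by group]
    exact mul_mem (mem_sup_right h2) (mem_sup_left hu)
  obtain ⟨c, hc⟩ := MulAction.exists_smul_eq C1 ((e • P : Sylow p G).subtype heP) (P.subtype le_sup_left)
  rw [Sylow.smul_subtype] at hc
  have hc2 : (c : G) • e • P = P := Sylow.subtype_injective hc
  have hmem : (c : G) ∈ (P : Subgroup G) ⊔ K := hC1 ▸ c.2
  have hmem' : (c : G) ∈ ((P : Subgroup G) : Set G) * (K : Set G) := by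
    rw [← coe_mul_of_left_le_normalizer_right _ _ hPK]; exact hmem
  obtain ⟨u, hu, k, hk, huk⟩ := hmem'
  have hm : k * e ∈ normalizer ((P : Subgroup G) : Set G) := by
    have h1 : ((c : G) * e) • P = P := by rw [mul_smul, hc2]
    rw [Sylow.smul_eq_iff_mem_normalizer] at h1
    have h2 := mul_mem (inv_mem (P.le_normalizer hu)) h1
    rwa [← huk, mul_assoc, inv_mul_cancel_left] at h2
  -- the `p'`-part of `k * e`
  obtain ⟨a, n, hdec, hza, hzn, ⟨j, hj⟩, hcop⟩ := Transfer.exists_pPart_mul (p := p) (k * e)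
  have hnN : n ∈ normalizer ((P : Subgroup G) : Set G) :=
    (zpowers_le.2 hm) hzn
  have hnE : n ∈ E := (zpowers_le.2 (E.mul_mem hk.1 he)) hzn
  have hncop : ¬ p ∣ orderOf n := hp.out.coprime_iff_not_dvd.1 hcop.symm
  have hnV : n ∉ centralizer (V : Set G) := by
    intro hnV
    classical
    obtain ⟨i, hi⟩ := mem_zpowers_iff_mem_range_orderOf.1 hza |> Finset.mem_image.1
    have h1 := mul_pow_mem_centralizer hk.2 heN (i * p ^ j)
    rw [pow_mul (k * e), hi.2, ← hj, pow_orderOf_eq_one, one_mul, inv_mem_iff, hj] at h1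
    -- `e ^ i` centralises `V`
    have h2 : e ^ i ∈ centralizer (V : Set G) := by
      have hcop' : Nat.Coprime (orderOf (e ^ i)) (p ^ j) :=
        (Nat.Coprime.coprime_dvd_left (orderOf_pow_dvd i)
          (hp.out.coprime_iff_not_dvd.2 hco).symm).pow_right j
      obtain ⟨r, hr⟩ := exists_pow_eq_self_of_coprime hcop'.symm
      rw [← hr, ← pow_mul e i, ← pow_mul e (i * p ^ j)]; rw [pow_mul]
      exact pow_mem h1 r
    have ha : a ∈ centralizer (V : Set G) := by
      have h3 := mul_mem (mul_pow_mem_centralizer hk.2 heN i) h2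
      rwa [hi.2, inv_mul_cancel_right] at h3
    have hke : k * e ∈ centralizer (V : Set G) := hdec ▸ mul_mem ha hnV
    have hkC : k ∈ centralizer (V : Set G) := (Subgroup.mem_inf.1 hk).2
    exact hmove (by simpa using mul_mem (inv_mem hkC) hke)
  -- coprime action of `n` on `P / P ⊓ E`
  obtain ⟨w, hwP, hwE⟩ := SetLike.not_le_iff_exists.1 hPE
  have hA : zpowers n ≤ normalizer ((P : Subgroup G) : Set G) := zpowers_le.2 hnN
  obtain ⟨x, ⟨hxP, hxC⟩, hxw⟩ := Coprime.exists_mem_centralizer_of_coset (A := zpowers n)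
    (K := (P : Subgroup G)) hA (by
      obtain ⟨l, hl⟩ := IsPGroup.iff_card.1 P.2
      rw [Nat.card_zpowers, hl]
      exact (hp.out.coprime_iff_not_dvd.2 hncop).symm.pow_right l)
    (Or.inl inferInstance) (N := (P : Subgroup G) ⊓ E) inf_le_left
    (fun a ha => mem_normalizer_iff.2 fun z => by
      simp only [mem_inf]
      refine and_congr (mem_normalizer_iff.1 (hA ha) z) ⟨fun h => hE.conj_mem z h a, fun h => ?_⟩
      simpa [mul_assoc] using hE.conj_mem _ h a⁻¹)
    hwP (fun a ha => by
      have haE : a ∈ E := (zpowers_le.2 hnE) ha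
      refine Subgroup.mem_inf.2 ⟨mul_mem ((mem_normalizer_iff.1 (hA ha) w).1 hwP) (inv_mem hwP), ?_⟩
      have := mul_mem haE (hE.conj_mem _ (inv_mem haE) w)
      simpa only [mul_assoc] using this)
  have hxE : x ∉ E := fun h => hwE (by
    have hxw' : x * w⁻¹ ∈ E := (Subgroup.mem_inf.1 hxw).2
    have := mul_mem (inv_mem hxw') h
    simpa using this)
  have hncP := hH.semiregular hnN hncop hxP (fun h => hxE (h ▸ one_mem E))
    (mem_centralizer_iff.1 hxC n (mem_zpowers n))
  exact hnV (mem_centralizer_iff.2 fun v hv => mem_centralizer_iff.1 hncP v (hVP hv))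

/-- If `P ⊓ E` is central in `P`, then `P ≤ E`. -/
theorem Hyp.le_of_inf_le_centralizer (hH : Hyp P) {E : Subgroup G} (hE : E.Normal) (hE1 : E ≠ ⊥)
    (hQ : (P : Subgroup G) ⊓ E ≤ centralizer ((P : Subgroup G) : Set G)) :
    (P : Subgroup G) ≤ E := by
  haveI := hE
  obtain ⟨Q, hQe, hQm⟩ := exists_sylow_inf P E
  have hnot : ¬ normalizer ((Q : Subgroup E) : Set E) ≤ centralizer ((Q : Subgroup E) : Set E) :=
    fun h => hE1 (hH.eq_bot_of_complement hE
      (Transfer.hasNormalPComplement_of_normalizer_le_centralizer Q h))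
  obtain ⟨m, hm, hmC⟩ := SetLike.not_le_iff_exists.1 hnot
  obtain ⟨a, e, hdec, hza, hze, ⟨j, hj⟩, hcop⟩ := Transfer.exists_pPart_mul (p := p) m
  have haN : a ∈ normalizer ((Q : Subgroup E) : Set E) := (zpowers_le.2 hm) hza
  have heN : e ∈ normalizer ((Q : Subgroup E) : Set E) := (zpowers_le.2 hm) hze
  have haQ : a ∈ (Q : Subgroup E) := by
    have hp1 : IsPGroup p ↥(zpowers a) := IsPGroup.of_card (n := j) (by rw [Nat.card_zpowers, hj])
    have hp2 := IsPGroup.to_sup_of_normal_right' hp1 Q.2 (zpowers_le.2 haN)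
    exact (Q.3 hp2 le_sup_right) ▸ mem_sup_left (mem_zpowers a)
  have haC : a ∈ centralizer ((Q : Subgroup E) : Set E) := mem_centralizer_iff.2 fun v hv => by
    rw [hQe] at hv haQ
    exact Subtype.ext (mem_centralizer_iff.1 (hQ ⟨haQ, a.2⟩) (v : G) hv)
  have heC : e ∉ centralizer ((Q : Subgroup E) : Set E) := fun h => hmC (hdec ▸ mul_mem haC h)
  refine hH.le_of_moved hE (V := (P : Subgroup G) ⊓ E) (e := (e : G)) inf_le_left hQ e.2
    ?_ ?_ fun h => heC ?_
  · rw [← hQm]
    exact le_normalizer_map E.subtype (mem_map_of_mem _ heN)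
  · rw [Subgroup.orderOf_coe]
    exact hp.out.coprime_iff_not_dvd.1 hcop.symm
  · refine mem_centralizer_iff.2 fun v hv => Subtype.ext ?_
    rw [hQe] at hv
    exact mem_centralizer_iff.1 h (v : G) ⟨hv, v.2⟩

end Cfsg.Agent.LocalFusionSuz
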