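/-
Pairs of elements of order `p` centralised by every Sylow subgroup containing them and generating
`p`-solvable subgroups (helper38).

* `CentType` : the elements; `Hyp.centType_of_central`;
* `exists_pair` : the `p`-part of `y * z` is conjugate to `y * z'` with `z'` conjugate to `z`,
  `y` and `z'` in the centre of a common Sylow subgroup.
-/
import Cfsg.Agent.Lib.LocalFusionSuz.Basic
import Cfsg.Agent.Lib.HallHigman.PSolvable
import Cfsg.Agent.Lib.Constrained.Basic
import Mathlib.GroupTheory.Perm.Cycle.Type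
import Cfsg.Agent.EqLemmas

set_option autoImplicit false
set_option linter.style.haveILetI false
set_option linter.unusedSectionVars false

namespace Cfsg.Agent.LocalFusionSuz

open Cfsg Subgroup
open scoped Pointwise

universe u

variable {G : Type u} [Group G] [Finite G] {p : ℕ} [hp : Fact p.Prime]

/-- Elements of order `p` central in every Sylow subgroup containing them. -/
def CentType (p : ℕ) (x : G) : Prop :=
  orderOf x = p ∧ ∀ S : Sylow p G, x ∈ (S : Subgroup G) → x ∈ centralizer ((S : Subgroup G) : Set G)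

/-- The `p`-part is trivial or central in every Sylow subgroup containing it. -/
def Small (p : ℕ) [Fact p.Prime] (g : G) : Prop :=
  FrobSection.pp p g = 1 ∨ CentType p (FrobSection.pp p g)

theorem mem_smul_sylow {P : Sylow p G} {g x : G} :
    x ∈ ((g • P : Sylow p G) : Subgroup G) ↔ g⁻¹ * x * g ∈ (P : Subgroup G) := by
  rw [Sylow.coe_subgroup_smul, mem_pointwise_smul_iff_inv_smul_mem, ← map_inv, MulAut.smul_def,
    MulAut.conj_apply, inv_inv]

theorem mem_centralizer_smul_sylow {P : Sylow p G} {g x : G} :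
    x ∈ centralizer (((g • P : Sylow p G) : Subgroup G) : Set G) ↔
      g⁻¹ * x * g ∈ centralizer ((P : Subgroup G) : Set G) := by
  constructor
  · intro h
    refine mem_centralizer_iff.2 fun u hu => ?_
    have hu' : g * u * g⁻¹ ∈ ((g • P : Sylow p G) : Subgroup G) := mem_smul_sylow.2 (by
      rw [show g⁻¹ * (g * u * g⁻¹) * g = u by group]; exact hu)
    calc u * (g⁻¹ * x * g) = g⁻¹ * (g * u * g⁻¹ * x) * g := by group
      _ = g⁻¹ * (x * (g * u * g⁻¹)) * g := by rw [mem_centralizer_iff.1 h _ hu']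
      _ = g⁻¹ * x * g * u := by group
  · intro h
    refine mem_centralizer_iff.2 fun w hw => ?_
    have hw' := mem_smul_sylow.1 hw
    calc w * x = g * ((g⁻¹ * w * g) * (g⁻¹ * x * g)) * g⁻¹ := by group
      _ = g * ((g⁻¹ * x * g) * (g⁻¹ * w * g)) * g⁻¹ := by rw [mem_centralizer_iff.1 h _ hw']
      _ = x * w := by group

theorem CentType.conj {x : G} (h : CentType p x) (g : G) : CentType p (g * x * g⁻¹) := by
  refine ⟨by rw [SecondMain.orderOf_conj, h.1], fun S hS => ?_⟩
  have e : S = g • (g⁻¹ • S) := by rw [smul_inv_smul]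
  rw [e] at hS ⊢
  rw [mem_centralizer_smul_sylow]
  rw [mem_smul_sylow] at hS
  have hx : g⁻¹ * (g * x * g⁻¹) * g = x := by group
  rw [hx] at hS ⊢
  exact h.2 _ hS

theorem CentType.of_isConj {x y : G} (h : CentType p x) (hc : IsConj x y) : CentType p y := by
  obtain ⟨g, rfl⟩ := isConj_iff.1 hc
  exact h.conj g

theorem CentType.inv {x : G} (h : CentType p x) : CentType p x⁻¹ :=
  ⟨by rw [orderOf_inv, h.1], fun S hS => inv_mem (h.2 S (inv_mem_iff.1 hS))⟩

theorem CentType.ne_one {x : G} (h : CentType p x) : x ≠ 1 := fun e =>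
  hp.out.one_lt.ne' (by rw [← h.1, e, orderOf_one])

theorem CentType.pow {x : G} (h : CentType p x) : ∃ k, orderOf x = p ^ k :=
  ⟨1, by rw [h.1, pow_one]⟩

theorem Small.conj {g : G} (h : Small p g) (c : G) : Small p (c * g * c⁻¹) := by
  rw [Small, FrobSection.pp_conj]
  rcases h with h | h
  · exact Or.inl (by rw [h]; group)
  · exact Or.inr (h.conj c)

variable {P : Sylow p G}

/-- Central elements of order `p` of a Sylow subgroup have central type. -/
theorem Hyp.centType_of_central (hH : Hyp P) {R : Sylow p G} {u : G} (huR : u ∈ (R : Subgroup G))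
    (huC : u ∈ centralizer ((R : Subgroup G) : Set G)) (hu : orderOf u = p) : CentType p u := by
  refine ⟨hu, fun S hS => ?_⟩
  obtain ⟨g, rfl⟩ := MulAction.exists_smul_eq G P R
  obtain ⟨h, rfl⟩ := MulAction.exists_smul_eq G P S
  rw [mem_smul_sylow] at huR hS
  rw [mem_centralizer_smul_sylow] at huC ⊢
  have e : h⁻¹ * u * h = (h⁻¹ * g) * (g⁻¹ * u * g) * (h⁻¹ * g)⁻¹ := by group
  rw [e] at hS ⊢
  exact hH.central_of_conj huR huC hS

/-! ### Congruent `p`-elements -/

/-- Two `p`-elements with the same image modulo a kernel of order prime to `p` are conjugate by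
an element of the kernel. -/
theorem exists_conj_of_map_eq {H H' : Type*} [Group H] [Finite H] [Group H'] (π : H →* H')
    (hker : ¬ p ∣ Nat.card π.ker) {a b : H} (ha : ∃ k, orderOf a = p ^ k)
    (hb : ∃ k, orderOf b = p ^ k) (h : π a = π b) : ∃ k ∈ π.ker, k * a * k⁻¹ = b := by
  classical
  have := Fintype.ofFinite π.ker
  obtain ⟨i, hi⟩ := ha
  obtain ⟨j, hj⟩ := hb
  let σ : Equiv.Perm π.ker :=
    { toFun := fun k => ⟨b * k * a⁻¹, by
        have hk := MonoidHom.mem_ker.1 k.2
        rw [MonoidHom.mem_ker, map_mul, map_mul, map_inv, hk, mul_one, h, mul_inv_cancel]⟩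
      invFun := fun k => ⟨b⁻¹ * k * a, by
        have hk := MonoidHom.mem_ker.1 k.2
        rw [MonoidHom.mem_ker, map_mul, map_mul, map_inv, hk, mul_one, h, inv_mul_cancel]⟩
      left_inv := fun k => Subtype.ext (by simp only; group)
      right_inv := fun k => Subtype.ext (by simp only; group) }
  have hiter : ∀ (n : ℕ) (k : π.ker), ((σ ^ n) k : H) = b ^ n * k * (a ^ n)⁻¹ := by
    intro n
    induction n with
    | zero => intro k; simp
    | succ n ih =>
      intro k
      rw [pow_succ', Equiv.Perm.mul_apply]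
      show b * ((σ ^ n) k : H) * a⁻¹ = _
      rw [ih, pow_succ' b, pow_succ a]
      group
  have hσ : σ ^ p ^ (i + j) = 1 := by
    refine Equiv.ext fun k => Subtype.ext ?_
    rw [hiter, Equiv.Perm.one_apply]
    have ea : a ^ p ^ (i + j) = 1 := by
      rw [pow_add, pow_mul, ← hi, pow_orderOf_eq_one, one_pow]
    have eb : b ^ p ^ (i + j) = 1 := by
      rw [add_comm, pow_add, pow_mul, ← hj, pow_orderOf_eq_one, one_pow]
    rw [ea, eb, one_mul, inv_one, mul_one]
  obtain ⟨k, hk⟩ := Equiv.Perm.exists_fixed_point_of_prime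
    (by rwa [← Nat.card_eq_fintype_card]) hσ
  have hk' : b * (k : H) * a⁻¹ = k := congrArg Subtype.val hk
  refine ⟨k, k.2, ?_⟩
  calc (k : H) * a * (k : H)⁻¹ = b * k * a⁻¹ * a * (k : H)⁻¹ := by rw [hk']
    _ = b := by group

/-! ### Pairs -/

/-- The `p`-part of a product of two elements of central type generating a `p`-solvable subgroup. -/
theorem exists_pair {y z : G} (hy : CentType p y) (hz : CentType p z)
    (hsol : Cfsg.IsPSolvable p ↥(closure ({y, z} : Set G))) :
    ∃ (R : Sylow p G) (z' : G), IsConj z z' ∧ y ∈ (R : Subgroup G) ∧ z' ∈ (R : Subgroup G) ∧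
      IsConj (FrobSection.pp p (y * z)) (y * z') := by
  set X := closure ({y, z} : Set G) with hX
  let y₀ : X := ⟨y, subset_closure (Set.mem_insert _ _)⟩
  let z₀ : X := ⟨z, subset_closure (Set.mem_insert_of_mem _ rfl)⟩
  haveI : (Cfsg.pPrimeCore p X).Normal := Cores.pPrimeCore_normal p X
  set π := QuotientGroup.mk' (Cfsg.pPrimeCore p X) with hπ
  have hπs : Function.Surjective π := QuotientGroup.mk'_surjective _
  have hker : ¬ p ∣ Nat.card π.ker := by
    rw [hπ, QuotientGroup.ker_mk']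
    exact Cores.not_dvd_card_pPrimeCore
  set C := Cfsg.pCore p (X ⧸ Cfsg.pPrimeCore p X) with hC
  have hchar : centralizer (C : Set (X ⧸ Cfsg.pPrimeCore p X)) ≤ C :=
    Constrained.isPConstrained_iff.1 (HallHigman.isPConstrained_of_isPSolvable hsol)
  have hmem : ∀ w : X, CentType p (w : G) → π w ∈ centralizer (C : Set _) := by
    intro w hw
    obtain ⟨Q, hQ⟩ := (IsPGroup.of_card (n := 1) (p := p) (G := zpowers w)
      (by rw [Nat.card_zpowers, pow_one, ← Subgroup.orderOf_coe, hw.1])).exists_le_sylow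
    obtain ⟨S, hS⟩ := (Q.2.map X.subtype).exists_le_sylow
    have hwS : (w : G) ∈ (S : Subgroup G) := hS (mem_map_of_mem _ (hQ (mem_zpowers w)))
    have hwC := hw.2 S hwS
    refine mem_centralizer_iff.2 fun c hc => ?_
    have hcQ : c ∈ (Q : Subgroup X).map π :=
      (Sylow.coe_mapSurjective hπs Q) ▸ Cores.pCore_le_sylow (Q.mapSurjective hπs) hc
    obtain ⟨q, hq, rfl⟩ := hcQ
    rw [← map_mul, ← map_mul]
    exact congrArg π (Subtype.ext (mem_centralizer_iff.1 hwC (q : G) (hS (mem_map_of_mem _ hq))))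
  have hgen : closure ({y₀, z₀} : Set X) = ⊤ := by
    refine Subgroup.map_injective X.subtype_injective ?_
    rw [MonoidHom.map_closure, Set.image_insert_eq, Set.image_singleton, ← MonoidHom.range_eq_map,
      Subgroup.range_subtype]
    rfl
  have htop : C = ⊤ := by
    rw [eq_top_iff, ← Subgroup.map_top_of_surjective π hπs, ← hgen, MonoidHom.map_closure,
      closure_le]
    rintro _ ⟨w, hw, rfl⟩
    rcases hw with rfl | rfl
    · exact hchar (hmem y₀ hy)
    · exact hchar (hmem z₀ hz)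
  have hqp : IsPGroup p (X ⧸ Cfsg.pPrimeCore p X) := by
    have h := Cores.isPGroup_pCore p (X ⧸ Cfsg.pPrimeCore p X)
    rw [← hC, htop] at h
    exact h.of_equiv Subgroup.topEquiv
  have hzero : ∀ w : X, ¬ p ∣ orderOf w → π w = 1 := by
    intro w hw
    obtain ⟨k, hk⟩ := IsPGroup.iff_orderOf.1 hqp (π w)
    refine orderOf_eq_one_iff.1 (Nat.Coprime.eq_one_of_dvd ?_ (orderOf_map_dvd π w))
    rw [hk]
    exact ((hp.out.coprime_iff_not_dvd.2 hw).pow_left k)
  -- the Sylow subgroup through `y`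
  obtain ⟨Q, hQ⟩ := (IsPGroup.of_card (n := 1) (p := p) (G := zpowers y₀)
    (by rw [Nat.card_zpowers, pow_one, ← Subgroup.orderOf_coe]; exact hy.1)).exists_le_sylow
  have hQtop : (Q : Subgroup X).map π = ⊤ := by
    have h1 := Cores.pCore_le_sylow (Q.mapSurjective hπs)
    rw [← hC, htop, Sylow.coe_mapSurjective] at h1
    exact top_le_iff.1 h1
  obtain ⟨q, hq, hqz⟩ : π z₀ ∈ (Q : Subgroup X).map π := hQtop ▸ mem_top _
  have hqp' : ∃ k, orderOf q = p ^ k := by
    obtain ⟨k, hk⟩ := IsPGroup.iff_orderOf.1 Q.2 ⟨q, hq⟩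
    exact ⟨k, by rwa [Subgroup.orderOf_mk] at hk⟩
  obtain ⟨κ, -, hκ⟩ := exists_conj_of_map_eq π hker
    (a := z₀) ⟨1, by rw [pow_one, ← Subgroup.orderOf_coe]; exact hz.1⟩ hqp' hqz.symm
  obtain ⟨R, hR⟩ := (Q.2.map X.subtype).exists_le_sylow
  have hzq : IsConj z (q : G) := isConj_iff.2 ⟨κ, congrArg Subtype.val hκ⟩
  have hyR : y ∈ (R : Subgroup G) := hR (mem_map_of_mem X.subtype (hQ (mem_zpowers y₀)))
  have hqR : (q : G) ∈ (R : Subgroup G) := hR (mem_map_of_mem X.subtype hq)
  refine ⟨R, q, hzq, hyR, hqR, ?_⟩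
  -- the `p`-part of the product
  set w := y₀ * z₀ with hw
  obtain ⟨a, b, hdec, hza, hzb, hka, hcop⟩ := Transfer.exists_pPart_mul (p := p) w
  have hab : Commute a b := by
    obtain ⟨i, rfl⟩ := hza
    obtain ⟨j, rfl⟩ := hzb
    exact (Commute.refl w).zpow_zpow i j
  have hb : ¬ p ∣ orderOf b := hp.out.coprime_iff_not_dvd.1 hcop.symm
  have hpp : FrobSection.pp p (y * z) = (a : G) := FrobSection.pp_eq
    ⟨b, (congrArg Subtype.val hdec).symm, congrArg Subtype.val hab.eq,
      by obtain ⟨k, hk⟩ := hka; exact ⟨k, by rw [Subgroup.orderOf_coe, hk]⟩,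
      by rwa [Subgroup.orderOf_coe]⟩
  have hu : ∃ k, orderOf (y₀ * q) = p ^ k := by
    have hmem' : y₀ * q ∈ (Q : Subgroup X) := mul_mem (hQ (mem_zpowers y₀)) hq
    obtain ⟨k, hk⟩ := IsPGroup.iff_orderOf.1 Q.2 ⟨_, hmem'⟩
    exact ⟨k, by rwa [Subgroup.orderOf_mk] at hk⟩
  have hmap : π a = π (y₀ * q) := by
    have h1 : π w = π a := by rw [hdec, map_mul, hzero b hb, mul_one]
    rw [← h1, hw, map_mul, map_mul, hqz]
  obtain ⟨κ', -, hκ'⟩ := exists_conj_of_map_eq π hker hka hu hmap
  rw [hpp]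
  exact isConj_iff.2 ⟨κ', congrArg Subtype.val hκ'⟩

/-- The consequences used: the two cases. -/
theorem Hyp.pair (hH : Hyp P) {y z : G} (hy : CentType p y) (hz : CentType p z)
    (hsol : Cfsg.IsPSolvable p ↥(closure ({y, z} : Set G))) :
    Small p (y * z) ∧ (¬ p ∣ orderOf (y * z) → IsConj z y⁻¹) := by
  obtain ⟨R, z', hzz, hyR, hzR, hc⟩ := exists_pair hy hz hsol
  have hz' : CentType p z' := hz.of_isConj hzz
  constructor
  · obtain ⟨g, hg⟩ := isConj_iff.1 hc
    rw [Small]
    by_cases h1 : y * z' = 1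
    · exact Or.inl (isConj_one_left.1 (h1 ▸ hc))
    · refine Or.inr (CentType.of_isConj ?_ hc.symm)
      have hcomm : Commute y z' := (mem_centralizer_iff.1 (hy.2 R hyR) z' hzR).symm
      refine hH.centType_of_central (mul_mem hyR hzR) (mul_mem (hy.2 R hyR) (hz'.2 R hzR))
        (orderOf_eq_prime ?_ h1)
      rw [hcomm.mul_pow]
      conv_lhs => arg 1; rw [← hy.1]
      rw [pow_orderOf_eq_one, one_mul, ← hz'.1, pow_orderOf_eq_one]
  · intro h
    rw [FrobSection.pp_eq_one_iff.2 h, isConj_one_right] at hc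
    rw [← eq_inv_of_mul_eq_one_right hc]
    exact hzz

end Cfsg.Agent.LocalFusionSuz
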