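/-
For odd `p` the Sylow subgroups are abelian (helper38).

The monomials in the values at elements of central type are orthogonal, over the principal block, to
the column of a `p`-element which is not of central type; separation of characters then gives a
contradiction at the characters trivial on the socle.
-/
import Cfsg.Agent.Lib.LocalFusionSuz.Pair
import Cfsg.Agent.Lib.SecondMain.Principal
import Cfsg.Agent.Lib.CharApp.Schur
import Cfsg.Agent.Lib.Char.Linear
import Cfsg.Agent.Lib.PairsRegular.Count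
import Mathlib.GroupTheory.FixedPointFree
import Cfsg.Agent.EqLemmas

set_option autoImplicit false
set_option linter.style.haveILetI false
set_option linter.unusedSectionVars false

open scoped ComplexConjugate

namespace Cfsg.Agent.LocalFusionSuz

open Cfsg Subgroup Blocks SecondMain

universe u

variable {G : Type u} [Group G] [Finite G] {p : ℕ} [hp : Fact p.Prime] {P : Sylow p G}

/-- For odd `p` and nonabelian `P` no nontrivial `p`-element is conjugate to its inverse. -/
theorem Hyp.not_isConj_inv (hH : Hyp P) (hp2 : p ≠ 2)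
    (hab : ¬ IsMulCommutative ↥(P : Subgroup G)) {u : G} (hu : ∃ k, orderOf u = p ^ k)
    (hu1 : u ≠ 1) : ¬ IsConj u u⁻¹ := by
  intro hconj
  obtain ⟨g, hg⟩ := exists_conj_mem P hu
  set y := g * u * g⁻¹ with hy
  have hy1 : y ≠ 1 := fun h => hu1 (conj_eq_one_iff.1 h)
  obtain ⟨c, hc⟩ := isConj_iff.1 hconj
  have hyc : (g * c * g⁻¹) * y * (g * c * g⁻¹)⁻¹ = y⁻¹ := by
    calc (g * c * g⁻¹) * (g * u * g⁻¹) * (g * c * g⁻¹)⁻¹ = g * (c * u * c⁻¹) * g⁻¹ := by group
      _ = (g * u * g⁻¹)⁻¹ := by rw [hc]; group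
  obtain ⟨n, hn, hne⟩ := hH.fus y hg _ (hyc.symm ▸ inv_mem hg)
  rw [hyc] at hne
  -- the `2`-part of `n`
  obtain ⟨s, m, hm, hsm⟩ := Nat.exists_eq_two_pow_mul_odd (orderOf_pos n).ne'
  have hodd_pow : ∀ i : ℕ, Odd i → n ^ i * y * (n ^ i)⁻¹ = y⁻¹ := by
    intro i hi
    obtain ⟨j, rfl⟩ := hi
    induction j with
    | zero => simpa using hne
    | succ j ih =>
      have e : 2 * (j + 1) + 1 = 1 + (1 + (2 * j + 1)) := by ring
      rw [e, pow_add, pow_add, pow_one]
      calc n * (n * n ^ (2 * j + 1)) * y * (n * (n * n ^ (2 * j + 1)))⁻¹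
          = n * (n * (n ^ (2 * j + 1) * y * (n ^ (2 * j + 1))⁻¹) * n⁻¹) * n⁻¹ := by group
        _ = n * (n * y⁻¹ * n⁻¹) * n⁻¹ := by rw [ih]
        _ = (n * (n * y * n⁻¹) * n⁻¹)⁻¹ := by simp [mul_assoc]
        _ = (n * y⁻¹ * n⁻¹)⁻¹ := by rw [hne]
        _ = n * y * n⁻¹ := by simp [mul_assoc]
        _ = y⁻¹ := hne
  set t := n ^ m with ht
  have htinv : t * y * t⁻¹ = y⁻¹ := hodd_pow m hm
  have htN : t ∈ normalizer ((P : Subgroup G) : Set G) := pow_mem hn m
  have htord : orderOf t ∣ 2 ^ s := by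
    refine orderOf_dvd_of_pow_eq_one ?_
    rw [ht, ← pow_mul, mul_comm, ← hsm, pow_orderOf_eq_one]
  have hco : ∀ i : ℕ, ¬ p ∣ orderOf (t ^ i) := fun i h =>
    hp2 ((Nat.prime_dvd_prime_iff_eq hp.out Nat.prime_two).1
      (hp.out.dvd_of_dvd_pow (h.trans ((orderOf_pow_dvd i).trans htord))))
  have ht2 : t * t ∈ centralizer ((P : Subgroup G) : Set G) := by
    refine hH.semiregular (mul_mem htN htN) (by simpa [sq] using hco 2) hg hy1 ?_
    refine mul_inv_eq_iff_eq_mul.1 ?_
    calc t * t * y * (t * t)⁻¹ = t * (t * y * t⁻¹) * t⁻¹ := by group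
      _ = t * y⁻¹ * t⁻¹ := by rw [htinv]
      _ = (t * y * t⁻¹)⁻¹ := by simp [mul_assoc]
      _ = y := by rw [htinv, inv_inv]
  have hfix : ∀ v ∈ (P : Subgroup G), t * v * t⁻¹ = v → v = 1 := by
    intro v hv hfv
    by_contra hv1
    have htC := hH.semiregular htN (by simpa using hco 1) hv hv1 (mul_inv_eq_iff_eq_mul.1 hfv)
    have h1 : y⁻¹ = y := by
      rw [← htinv, ← mem_centralizer_iff.1 htC y hg, mul_inv_cancel_right]
    have h2 : y ^ 2 = 1 := by rw [sq]; nth_rw 1 [← h1]; exact inv_mul_cancel y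
    obtain ⟨k, hk⟩ := orderOf_pow_of_mem P hg
    have h3 : orderOf y = 1 := by
      refine Nat.Coprime.eq_one_of_dvd ?_ (orderOf_dvd_of_pow_eq_one h2)
      rw [hk]
      exact ((Nat.coprime_primes hp.out Nat.prime_two).2 hp2).pow_left k
    exact hy1 (orderOf_eq_one_iff.1 h3)
  let φ : ↥(P : Subgroup G) →* ↥(P : Subgroup G) :=
    (normalizerMonoidHom (P : Subgroup G) ⟨t, htN⟩).toMonoidHom
  have hφ : ∀ v, ((φ v : ↥(P : Subgroup G)) : G) = t * v * t⁻¹ := fun v => rfl
  refine hab ⟨⟨fun a b => (MonoidHom.FixedPointFree.commute_all_of_involutive (φ := φ)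
    (fun v hv => Subtype.ext (hfix v v.2 (by rw [← hφ, hv]))) (fun v => Subtype.ext ?_) a b).eq⟩⟩
  rw [hφ, hφ]
  calc t * (t * v * t⁻¹) * t⁻¹ = (t * t) * v * (t * t)⁻¹ := by group
    _ = v := by rw [← mem_centralizer_iff.1 ht2 (v : G) v.2, mul_inv_cancel_right]

theorem Hyp.exists_central (hH : Hyp P) :
    ∃ x ∈ (P : Subgroup G), x ∈ centralizer ((P : Subgroup G) : Set G) ∧ orderOf x = p := by
  have hP1 : (P : Subgroup G) ≠ ⊥ := fun h => hH.notNormal (h ▸ inferInstance)
  haveI : Nontrivial ↥(P : Subgroup G) := (Subgroup.nontrivial_iff_ne_bot _).2 hP1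
  haveI := P.2.center_nontrivial
  obtain ⟨z, hz⟩ := exists_ne (1 : center ↥(P : Subgroup G))
  obtain ⟨m, hm⟩ := exists_pow_orderOf (orderOf_pow_of_mem P (z : ↥(P : Subgroup G)).2)
    fun h => hz (Subtype.ext (Subtype.ext h))
  exact ⟨_, pow_mem (z : ↥(P : Subgroup G)).2 m, pow_mem (mem_centralizer_iff.2 fun u hu =>
    congrArg Subtype.val (mem_center_iff.1 z.2 ⟨u, hu⟩)) m, hm⟩

theorem class_identity [Fintype G] (χ : IrrCharacter G) (a b : G) :
    (χ : G → ℂ) a * (χ : G → ℂ) b / (χ : G → ℂ) 1 =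
      (Nat.card G : ℂ)⁻¹ * ∑ g : G, (χ : G → ℂ) (a * (g * b * g⁻¹)) := by
  obtain ⟨n, ρ, hirr, hρ⟩ := χ.2
  have h1 := CharApp.sum_char_conj_mul ρ b a
  have hn : (Module.finrank ℂ (Fin n → ℂ) : ℂ) = (χ : G → ℂ) 1 := by
    rw [← hρ, Representation.char_one]
  have hG : (Nat.card G : ℂ) ≠ 0 := Nat.cast_ne_zero.2 Nat.card_pos.ne'
  rw [hρ, hn] at h1
  rw [Finset.sum_congr rfl (fun g _ => isClassFunction_comm (irr_class χ) a (g * b * g⁻¹)), h1]
  field_simp

variable {M : Ideal AlgInt}

/-- Principal characters only depend on the `p`-part, at elements with nontrivial `p`-part. -/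
theorem Hyp.apply_eq_pp (hH : Hyp P) (hM : IsPModular p M) {χ : IrrCharacter G}
    (hχ : χ ∈ principalBlock M G) {w : G} (hw : FrobSection.pp p w ≠ 1) :
    (χ : G → ℂ) w = (χ : G → ℂ) (FrobSection.pp p w) := by
  obtain ⟨b, he, hc, hk, hb⟩ := FrobSection.isPPart_pp (p := p) w
  set u := FrobSection.pp p w
  have hbH : b ∈ centralizer ({u} : Set G) := mem_centralizer_singleton_iff.2 hc.symm.eq
  conv_lhs => rw [← he]
  exact apply_shift_principal hM hk (H := centralizer ({u} : Set G))
    (fun g => commute_iff_mem_centralizer_singleton.symm.symm) (hH.complement hk hw) hχ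
    (s := ⟨b, hbH⟩) (by rwa [← Subgroup.orderOf_coe])

open scoped Classical in
/-- The sum over the principal block of the monomial `l` against the column at `h`. -/
noncomputable def mono [Fintype (IrrCharacter G)] (M : Ideal AlgInt) (h : G) (l : List G) : ℂ :=
  ∑ χ ∈ (principalBlock M G).toFinset, (χ : G → ℂ) 1 * conj ((χ : G → ℂ) h) *
    (l.map fun v => (χ : G → ℂ) v / (χ : G → ℂ) 1).prod

theorem mono_perm [Fintype (IrrCharacter G)] {h : G} {l l' : List G} (hl : l.Perm l') :
    mono M h l = mono M h l' := by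
  unfold mono
  exact Finset.sum_congr rfl fun χ _ => by rw [(hl.map _).prod_eq]

theorem colSum_small (hM : IsPModular p M) {w h : G} (hh : ∃ k, orderOf h = p ^ k)
    (hsm : ¬ Small p h) (hw : Small p w) : colSum (principalBlock M G) w h = 0 := by
  obtain ⟨b, he, hc, hk, hb⟩ := FrobSection.isPPart_pp (p := p) w
  have h1 := colSum_eq_zero (B := principalBlock M G) hM BrauerPairs.isPBlock_principal
    (x := FrobSection.pp p w) (y := b) (x' := h) (y' := 1) hk hh hb
    (by simpa using hp.out.one_lt.ne') hc (Commute.one_right _) (fun hcon => hsm ?_)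
  · rwa [he, mul_one] at h1
  · rw [Small, FrobSection.pp_eq_self hh]
    rcases hw with h | h
    · exact Or.inl (isConj_one_right.1 (h ▸ hcon))
    · exact Or.inr (h.of_isConj hcon)

/-- All monomials in values at elements of central type vanish. -/
theorem Hyp.mono_eq_zero [Fintype (IrrCharacter G)] (hH : Hyp P) (hM : IsPModular p M) (hp2 : p ≠ 2)
    (hab : ¬ IsMulCommutative ↥(P : Subgroup G))
    (hc : ∀ x y : G, orderOf x = p → orderOf y = p →
      Cfsg.IsPSolvable p ↥(closure ({x, y} : Set G)))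
    {h : G} (hh : ∃ k, orderOf h = p ^ k) (hsm : ¬ Small p h) :
    ∀ l : List G, (∀ v ∈ l, CentType p v) → mono M h l = 0 := by
  classical
  have := Fintype.ofFinite G
  have hd : ∀ χ : IrrCharacter G, (χ : G → ℂ) 1 ≠ 0 := fun χ => Char.IsIrrCharacter.apply_one_ne_zero χ.2
  have hcol : ∀ w : G, Small p w → mono M h [w] = 0 := by
    intro w hw
    have e := colSum_small hM hh hsm hw
    rw [colSum, finsum_mem_eq_toFinset_sum] at e
    rw [← e]
    unfold mono
    refine Finset.sum_congr rfl fun χ _ => ?_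
    have := hd χ
    simp only [List.map_cons, List.map_nil, List.prod_cons, List.prod_nil, mul_one]
    field_simp
  have hsplit : ∀ (y z : G) (rest : List G), mono M h (y :: z :: rest) =
      (Nat.card G : ℂ)⁻¹ * ∑ g : G, mono M h ((y * (g * z * g⁻¹)) :: rest) := by
    intro y z rest
    unfold mono
    rw [Finset.sum_comm, Finset.mul_sum]
    refine Finset.sum_congr rfl fun χ _ => ?_
    have e := class_identity χ y z
    have := hd χ
    simp only [List.map_cons, List.prod_cons]
    rw [← Finset.mul_sum, ← Finset.sum_mul, ← Finset.sum_div, ← mul_assoc ((χ : G → ℂ) y / _),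
      div_mul_div_comm]
    field_simp at e ⊢
    linear_combination (conj ((χ : G → ℂ) h) *
      (List.map (fun v => (χ : G → ℂ) v / (χ : G → ℂ) 1) rest).prod) * e
  intro l
  induction hn : l.length using Nat.strong_induction_on generalizing l with
  | _ n ih => ?_
  subst hn
  intro hl
  match l, hl with
  | [], _ =>
    have e := colSum_small hM hh hsm (w := (1 : G)) (Or.inl FrobSection.pp_one)
    rw [colSum, finsum_mem_eq_toFinset_sum] at e
    rw [← e]
    unfold mono
    exact Finset.sum_congr rfl fun χ _ => by simp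
  | [v], hl =>
    have hv := hl v List.mem_cons_self
    exact hcol v (Or.inr (by rw [FrobSection.pp_eq_self hv.pow]; exact hv))
  | [y, z], hl =>
    rw [hsplit, Finset.sum_eq_zero, mul_zero]
    intro g _
    refine hcol _ (hH.pair (hl y (by simp)) ((hl z (by simp)).conj g) ?_).1
    exact hc _ _ (hl y (by simp)).1 ((hl z (by simp)).conj g).1
  | y :: z :: v :: rest, hl =>
    -- a pair with nonconjugate inverse
    have step : ∀ (a b : G) (r : List G), (y :: z :: v :: rest).Perm (a :: b :: r) →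
        ¬ IsConj b a⁻¹ → mono M h (y :: z :: v :: rest) = 0 := by
      intro a b r hperm hab'
      have hlen := hperm.length_eq
      have ha := hl a (hperm.mem_iff.2 List.mem_cons_self)
      have hb := hl b (hperm.mem_iff.2 (List.mem_cons_of_mem _ List.mem_cons_self))
      rw [mono_perm hperm, hsplit, Finset.sum_eq_zero, mul_zero]
      intro g _
      have hb' : CentType p (g * b * g⁻¹) := hb.conj g
      obtain ⟨hsmall, hreg⟩ := hH.pair ha hb' (hc _ _ ha.1 hb'.1)
      set w := a * (g * b * g⁻¹) with hw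
      have hw1 : FrobSection.pp p w ≠ 1 := fun h1 => hab'
        ((isConj_iff.2 ⟨g, rfl⟩ : IsConj b (g * b * g⁻¹)).trans
          (hreg (FrobSection.pp_eq_one_iff.1 h1)))
      have hwC : CentType p (FrobSection.pp p w) := hsmall.resolve_left hw1
      have hr : mono M h (FrobSection.pp p w :: r) = 0 := by
        refine ih _ ?_ _ rfl fun u hu => ?_
        · simp only [List.length_cons] at hlen ⊢
          omega
        · rcases List.mem_cons.1 hu with rfl | hu
          · exact hwC
          · exact hl u (hperm.mem_iff.2 (List.mem_cons_of_mem _ (List.mem_cons_of_mem _ hu)))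
      rw [← hr]
      unfold mono
      refine Finset.sum_congr rfl fun χ hχ => ?_
      simp only [List.map_cons, List.prod_cons]
      rw [hH.apply_eq_pp hM (Set.mem_toFinset.1 hχ) hw1]
    have hy := hl y (by simp)
    by_cases hzy : IsConj z y⁻¹
    · by_cases hvy : IsConj v y⁻¹
      · refine step z v (y :: rest) ?_ fun hvz => ?_
        · exact (List.Perm.swap z y _).trans ((List.Perm.swap v y rest).cons z)
        · have hz := hl z (by simp)
          exact hH.not_isConj_inv hp2 hab hz.pow hz.ne_one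
            ((hzy.trans hvy.symm).trans hvz)
      · exact step y v (z :: rest) ((List.Perm.swap v z rest).cons y) hvy
    · exact step y z (v :: rest) (List.Perm.refl _) hzy

/-- For odd `p` the Sylow subgroups are abelian. -/
theorem Hyp.comm_of_odd (hH : Hyp P) (hp2 : p ≠ 2)
    (hc : ∀ x y : G, orderOf x = p → orderOf y = p →
      Cfsg.IsPSolvable p ↥(closure ({x, y} : Set G))) :
    IsMulCommutative ↥(P : Subgroup G) := by
  classical
  by_contra hab
  have := Fintype.ofFinite G
  have := Fintype.ofFinite (IrrCharacter G)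
  obtain ⟨E, hE, hsimple, hEnc, hCE, -⟩ := hH.exists_simple
  haveI := hE
  haveI := hsimple
  have hE1 : E ≠ ⊥ := fun h => hEnc (h ▸ inferInstance)
  -- an element of the socle which is not small
  obtain ⟨h, hhP, hhE, hsm⟩ : ∃ h ∈ (P : Subgroup G), h ∈ E ∧ ¬ Small p h := by
    by_contra hcon
    push Not at hcon
    refine hab ⟨⟨fun a b => ?_⟩⟩
    have hle : (P : Subgroup G) ⊓ E ≤ centralizer ((P : Subgroup G) : Set G) := by
      rintro u ⟨huP, huE⟩
      have hs := hcon u huP huE
      rw [Small, FrobSection.pp_eq_self (orderOf_pow_of_mem P huP)] at hs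
      rcases hs with rfl | hs
      · exact one_mem _
      · exact hs.2 P huP
    have hPE := hH.le_of_inf_le_centralizer hE hE1 hle
    exact Subtype.ext (mem_centralizer_iff.1 (hle ⟨b.2, hPE b.2⟩) a a.2)
  have hhk := orderOf_pow_of_mem P hhP
  obtain ⟨x, hxP, hxC, hxp⟩ := hH.exists_central
  have hx : CentType p x := hH.centType_of_central hxP hxC hxp
  obtain ⟨M, hM⟩ := Blocks.exists_isPModular hp.out
  set T := (principalBlock M G).toFinset with hT
  let w : IrrCharacter G → G → ℂ := fun χ v => (χ : G → ℂ) v / (χ : G → ℂ) 1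
  let f : IrrCharacter G → ℂ := fun χ => (χ : G → ℂ) 1 * conj ((χ : G → ℂ) h)
  have hd : ∀ χ : IrrCharacter G, (χ : G → ℂ) 1 ≠ 0 := fun χ => Char.IsIrrCharacter.apply_one_ne_zero χ.2
  set bad := T.filter fun χ => ∃ v, CentType p v ∧ w χ v ≠ 1 with hbad
  have hv : ∀ χ ∈ bad, ∃ v, CentType p v ∧ w χ v ≠ 1 := fun χ hχ => (Finset.mem_filter.1 hχ).2
  choose! v hvC hvne using hv
  -- separation
  have hsep : ∀ S ⊆ bad, ∀ l : List G, (∀ u ∈ l, CentType p u) →
      ∑ χ ∈ T, f χ * (l.map (w χ)).prod * ∏ χ' ∈ S, (w χ (v χ') - w χ' (v χ')) = 0 := by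
    intro S
    induction S using Finset.induction_on with
    | empty =>
      intro _ l hl
      simp only [Finset.prod_empty, mul_one]
      exact hH.mono_eq_zero hM hp2 hab hc hhk hsm l hl
    | @insert a S ha ih =>
      intro hsub l hl
      have hS : S ⊆ bad := fun b hb => hsub (Finset.mem_insert_of_mem hb)
      have h1 := ih hS (v a :: l) (fun u hu => by
        rcases List.mem_cons.1 hu with rfl | hu
        · exact hvC a (hsub (Finset.mem_insert_self a S))
        · exact hl u hu)
      have h2 := ih hS l hl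
      calc ∑ χ ∈ T, f χ * (l.map (w χ)).prod * ∏ χ' ∈ insert a S, (w χ (v χ') - w χ' (v χ'))
          = ∑ χ ∈ T, (f χ * ((v a :: l).map (w χ)).prod * ∏ χ' ∈ S, (w χ (v χ') - w χ' (v χ')) -
              w a (v a) * (f χ * (l.map (w χ)).prod * ∏ χ' ∈ S, (w χ (v χ') - w χ' (v χ')))) :=
            Finset.sum_congr rfl fun χ _ => by
              rw [Finset.prod_insert ha, List.map_cons, List.prod_cons]; ring
        _ = 0 := by rw [Finset.sum_sub_distrib, ← Finset.mul_sum, h1, h2, mul_zero, sub_zero]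
  have hzero := hsep bad (Finset.Subset.refl _) [] (fun u hu => absurd hu (List.not_mem_nil))
  set K := ∏ χ' ∈ bad, ((1 : ℂ) - w χ' (v χ')) with hK
  have hK0 : K ≠ 0 := Finset.prod_ne_zero_iff.2 fun χ' hχ' =>
    sub_ne_zero.2 fun e => hvne χ' hχ' e.symm
  -- the good characters are trivial on `E`
  have hgood : ∀ χ ∈ T \ bad, (χ : G → ℂ) h = (χ : G → ℂ) 1 ∧
      ∀ χ' ∈ bad, w χ (v χ') = 1 := by
    intro χ hχ
    rw [Finset.mem_sdiff, hbad, Finset.mem_filter, not_and] at hχ
    have hall := hχ.2 hχ.1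
    push Not at hall
    refine ⟨?_, fun χ' hχ' => hall _ (hvC χ' hχ')⟩
    have hxχ := hall x hx
    simp only [w, div_eq_one_iff_eq (hd χ)] at hxχ
    obtain ⟨n, ρ, hi, hρ⟩ := χ.2
    let K : Subgroup G := MonoidHom.ker (ρ : G →* Module.End ℂ (Fin n → ℂ))
    have hmemK : ∀ g : G, g ∈ K ↔ (χ : G → ℂ) g = (χ : G → ℂ) 1 := fun g => by
      rw [MonoidHom.mem_ker, ← hρ, Representation.char_one]
      exact (Char.character_eq_finrank_iff ρ g).symm
    have hxK : x ∈ K := (hmemK x).2 hxχ
    haveI : K.Normal := MonoidHom.normal_ker _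
    rcases (inferInstance : (K.subgroupOf E).Normal).eq_bot_or_eq_top with hb | ht
    · exfalso
      have hle : K ≤ centralizer (E : Set G) := by
        intro k hk
        refine mem_centralizer_iff.2 fun e he => ?_
        have hdis : Disjoint E K := disjoint_iff.2 (by
          rw [inf_comm]; exact disjoint_iff.1 (subgroupOf_eq_bot.1 hb))
        exact (Subgroup.commute_of_normal_of_disjoint E K hE inferInstance hdis e k he hk).eq
      rw [hCE] at hle
      exact hx.ne_one (mem_bot.1 (hle hxK))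
    · exact (hmemK h).1 (subgroupOf_eq_top.1 ht hhE)
  have hsum : ∑ χ ∈ T \ bad, f χ * K = 0 := by
    rw [← hzero]
    simp only [List.map_nil, List.prod_nil, mul_one]
    rw [← Finset.sum_sdiff (show bad ⊆ T from Finset.filter_subset _ _)]
    rw [Finset.sum_eq_zero (s := bad) fun χ hχ => ?_, add_zero]
    · exact Finset.sum_congr rfl fun χ hχ => by
        rw [hK]
        congr 1
        exact Finset.prod_congr rfl fun χ' hχ' => by rw [(hgood χ hχ).2 χ' hχ']
    · rw [Finset.prod_eq_zero hχ (sub_self _), mul_zero]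
  rw [← Finset.sum_mul, mul_eq_zero] at hsum
  have hsum0 := hsum.resolve_right hK0
  have hre : ∑ χ ∈ T \ bad, Complex.normSq ((χ : G → ℂ) 1) = 0 := by
    have h2 : ((∑ χ ∈ T \ bad, Complex.normSq ((χ : G → ℂ) 1) : ℝ) : ℂ) = 0 := by
      rw [Complex.ofReal_sum, ← hsum0]
      exact Finset.sum_congr rfl fun χ hχ => by
        simp only [f, (hgood χ hχ).1, Complex.mul_conj]
    exact_mod_cast h2
  have h1mem : BrauerPairs.oneIrr G ∈ T \ bad := by
    rw [Finset.mem_sdiff, hbad, Finset.mem_filter]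
    refine ⟨Set.mem_toFinset.2 (BrauerPairs.oneIrr_mem_principal hM), fun hh' => ?_⟩
    obtain ⟨-, u, -, hu⟩ := hh'
    exact hu (by simp [w, BrauerPairs.oneIrr])
  have h3 := (Finset.sum_eq_zero_iff_of_nonneg fun χ _ => Complex.normSq_nonneg _).1 hre _ h1mem
  simp [BrauerPairs.oneIrr] at h3

end Cfsg.Agent.LocalFusionSuz
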