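/-
For odd `p` an abelian Sylow subgroup is impossible (helper38).

In the simple socle the principal block is coherent; either two classes of elements of order `p` are
not mutually inverse, and the degree relation gives a nonprincipal linear character, or they form one
real class, and the proportion of pairs with singular product is too large.
-/
import Cfsg.Agent.Lib.LocalFusionSuz.OddNonab
import Cfsg.Agent.Lib.FrobSection.Main
import Cfsg.Agent.Lib.PairsRegular.Count
import Cfsg.Agent.Lib.Blocks.Simple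
import Cfsg.Agent.Lib.Char.Eigen
import Cfsg.Agent.Lib.PLocal.ActionStable
import Cfsg.Agent.EqLemmas

set_option autoImplicit false
set_option linter.style.haveILetI false
set_option linter.unusedSectionVars false

open scoped ComplexConjugate

namespace Cfsg.Agent.LocalFusionSuz

open Cfsg Subgroup Blocks SecondMain FrobSection

universe u

variable {G : Type u} [Group G] [Finite G] {p : ℕ} [hp : Fact p.Prime] {P : Sylow p G}

/-- The pairs condition (c). -/
def PairSolv (p : ℕ) (G : Type u) [Group G] : Prop :=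
  ∀ x y : G, orderOf x = p → orderOf y = p → Cfsg.IsPSolvable p ↥(closure ({x, y} : Set G))

theorem exists_ne_mul_of_not_comm (hG : ¬ IsMulCommutative G) : ∃ a b : G, a * b ≠ b * a := by
  by_contra h
  exact hG ⟨⟨fun a b => by_contra fun e => h ⟨a, b, e⟩⟩⟩

/-- Characters of `X` are constant on the elements with `p`-part conjugate into `P` nontrivially. -/
theorem valX_apply {M : Ideal AlgInt} (D : Data P M) {χ : IrrCharacter G} (hχ : χ ∈ D.X) {w : G}
    {y : ↥(P : Subgroup G)} (hy : y ≠ 1) (hc : IsConj (pp p w) (y : G)) :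
    (χ : G → ℂ) w = (D.a χ : ℂ) := by
  obtain ⟨c, hc⟩ := isConj_iff.1 hc
  have h := D.valX χ hχ (c * w * c⁻¹) y hy (by rw [← hc, ← pp_conj]; exact isPPart_pp _)
  rwa [irr_class χ] at h

theorem pp_of_mem (y : ↥(P : Subgroup G)) : pp p (y : G) = y :=
  pp_eq_self (orderOf_pow_of_mem P y.2)

/-- Two classes of elements of order `p` in `P` which are not mutually inverse. -/
theorem false_of_two_classes [IsSimpleGroup G] (hG : ¬ IsMulCommutative G) (hH : Hyp P)
    (hS : Setup P) (hc : PairSolv p G) {x x' : ↥(P : Subgroup G)} (hx : orderOf x = p)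
    (hx' : orderOf x' = p) (hne : ¬ IsConj (x' : G) (x : G)⁻¹) : False := by
  classical
  have := Fintype.ofFinite G
  have := Fintype.ofFinite (IrrCharacter G)
  haveI := hS.comm
  have hx1 : x ≠ 1 := fun h => hp.out.one_lt.ne' (by rw [← hx, h, orderOf_one])
  have hx'1 : x' ≠ 1 := fun h => hp.out.one_lt.ne' (by rw [← hx', h, orderOf_one])
  have hct : ∀ v : ↥(P : Subgroup G), orderOf v = p → CentType p (v : G) := fun v hv =>
    hH.centType_of_central v.2 (mem_centralizer_iff.2 fun u hu =>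
      congrArg Subtype.val (mul_comm' (⟨u, hu⟩ : ↥(P : Subgroup G)) v))
      (by rw [Subgroup.orderOf_coe]; exact hv)
  -- the hypothesis of `exists_data`
  have hlt : Nat.card (autP P) + 1 < Nat.card ↥(P : Subgroup G) := by
    have := Fintype.ofFinite ↥(P : Subgroup G)
    set S := Finset.univ.filter fun z : ↥(P : Subgroup G) => IsConj (x : G) (z : G) with hSdef
    have hcard : S.card = Nat.card (autP P) := by
      rw [← hS.card_conj_eq hx1]
      congr 1
      ext z
      simp [hSdef]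
    have h1 : (1 : ↥(P : Subgroup G)) ∉ S := fun h =>
      hx1 (Subtype.ext (isConj_one_left.1 (Finset.mem_filter.1 h).2))
    have h2 : x'⁻¹ ∉ insert 1 S := by
      rw [Finset.mem_insert, not_or]
      refine ⟨fun h => hx'1 (inv_eq_one.1 h), fun h => hne ?_⟩
      obtain ⟨g, hg⟩ := isConj_iff.1 (Finset.mem_filter.1 h).2
      refine (isConj_iff.2 ⟨g, ?_⟩ : IsConj (x : G)⁻¹ (x' : G)).symm
      rw [Subgroup.coe_inv] at hg
      rw [← inv_inv (x' : G), ← hg]
      simp [mul_assoc]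
    have h3 := Finset.card_le_univ (insert x'⁻¹ (insert 1 S))
    rw [Finset.card_insert_of_notMem h2, Finset.card_insert_of_notMem h1, hcard,
      ← Nat.card_eq_fintype_card] at h3
    omega
  obtain ⟨M, hM⟩ := Blocks.exists_isPModular hp.out
  obtain ⟨D⟩ := hS.exists_data hM hlt
  -- the characters in `X` are principal
  have hX : ∀ χ ∈ D.X, χ = BrauerPairs.oneIrr G := by
    intro χ hχ
    by_contra hne1
    have hval : ∀ v : ↥(P : Subgroup G), v ≠ 1 → (χ : G → ℂ) v = (D.a χ : ℂ) := fun v hv =>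
      valX_apply D hχ hv (by rw [pp_of_mem])
    have hprod : ∀ g : G, (χ : G → ℂ) ((x : G) * (g * (x' : G) * g⁻¹)) = (D.a χ : ℂ) := by
      intro g
      obtain ⟨hsm, hreg⟩ := hH.pair (hct x hx) ((hct x' hx').conj g)
        (hc _ _ (hct x hx).1 ((hct x' hx').conj g).1)
      obtain ⟨y, hy⟩ := exists_rep P ((x : G) * (g * (x' : G) * g⁻¹))
      refine valX_apply D hχ (y := y) (fun hy1 => hne ?_) hy
      rw [hy1, Subgroup.coe_one, isConj_one_left] at hy
      exact (isConj_iff.2 ⟨g, rfl⟩ : IsConj (x' : G) _).trans (hreg (pp_eq_one_iff.1 hy))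
    have h := class_identity χ (x : G) (x' : G)
    rw [Finset.sum_congr rfl fun g _ => hprod g, hval x hx1, hval x' hx'1, Finset.sum_const,
      Finset.card_univ, nsmul_eq_mul, ← Nat.card_eq_fintype_card, ← mul_assoc,
      inv_mul_cancel₀ (Nat.cast_ne_zero.2 Nat.card_pos.ne'), one_mul] at h
    have hd0 : (χ : G → ℂ) 1 ≠ 0 := Char.IsIrrCharacter.apply_one_ne_zero χ.2
    have ha : (D.a χ : ℂ) ≠ 0 := Int.cast_ne_zero.2 (D.a_ne χ hχ)
    rw [div_eq_iff hd0] at h
    refine hx1 (Subtype.ext (PairsRegular.eq_one_of_apply_eq_degree hne1 ?_))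
    rw [hval x hx1]
    exact mul_left_cancel₀ ha h
  obtain ⟨χ₁, hχ₁, hf₁, ha₁⟩ := D.one
  have hXeq : D.X = {χ₁} := Set.Subset.antisymm
    (fun χ hχ => by rw [hX χ hχ, ← hX χ₁ hχ₁]; rfl) (Set.singleton_subset_iff.2 hχ₁)
  -- some exceptional character
  obtain ⟨ψ, hψ⟩ : ∃ ψ : Dual P, ψ ≠ 1 := by
    haveI : Nontrivial (Dual P) := by
      haveI : Finite (Dual P) := Nat.finite_of_card_ne_zero (by rw [hS.card_dual]; exact Nat.card_pos.ne')
      rw [← Finite.one_lt_card_iff_nontrivial, hS.card_dual]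
      omega
    exact exists_ne 1
  have hη : D.ζ ψ ∈ D.ζ '' {ψ | ψ ≠ 1} := ⟨ψ, hψ, rfl⟩
  have hrel := D.relation hS hη (g := (1 : G)) (by simpa using hp.out.one_lt.ne')
  rw [hXeq, finsum_mem_singleton, ha₁, hf₁, Int.cast_one, mul_one] at hrel
  obtain ⟨n, hn⟩ := Char.IsCharacter.exists_degree (Char.IsIrrCharacter.isCharacter (D.ζ ψ).2)
  rw [hn] at hrel
  have hint : (((Nat.card (D.ζ '' {ψ | ψ ≠ 1}) : ℤ) * D.d - D.δ) * (n : ℤ) + 1) = 0 := by
    have : (((((Nat.card (D.ζ '' {ψ | ψ ≠ 1}) : ℤ) * D.d - D.δ) * (n : ℤ) + 1) : ℤ) : ℂ) = 0 := by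
      push_cast; exact hrel
    exact_mod_cast this
  have hn1 : n = 1 := by
    have hdvd : (n : ℤ) ∣ 1 :=
      ⟨-((Nat.card (D.ζ '' {ψ | ψ ≠ 1}) : ℤ) * D.d - D.δ), by linear_combination hint⟩
    exact Nat.dvd_one.1 (Int.natCast_dvd_natCast.1 (by simpa using hdvd))
  have h1 := Blocks.eq_one_of_degree_one (exists_ne_mul_of_not_comm hG) (χ := D.ζ ψ)
    (by rw [hn, hn1, Nat.cast_one])
  refine Set.disjoint_left.1 D.disj hχ₁ ?_
  have e : χ₁ = D.ζ ψ := Subtype.ext (by rw [hf₁, h1])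
  exact e ▸ hη

open scoped Classical in
set_option maxHeartbeats 1600000 in
/-- One real class of elements of order `p` and `P` not elementary. -/
theorem false_of_one_class [IsSimpleGroup G] (hH : Hyp P)
    (hS : Setup P) (hc : PairSolv p G) (hp2 : p ≠ 2) {x : ↥(P : Subgroup G)} (hx : orderOf x = p)
    (hclass : ∀ z : ↥(P : Subgroup G), orderOf z = p → IsConj (x : G) (z : G))
    {u : ↥(P : Subgroup G)} (hu : u ^ p ≠ 1) : False := by
  have := Fintype.ofFinite G
  have := Fintype.ofFinite (IrrCharacter G)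
  have := Fintype.ofFinite ↥(P : Subgroup G)
  haveI := hS.comm
  have hab : ∀ a b : ↥(P : Subgroup G), a * b = b * a := fun a b => mul_comm' a b
  have hp3 : 3 ≤ p := by have := hp.out.two_le; omega
  have hx1 : x ≠ 1 := fun h => hp.out.one_lt.ne' (by rw [← hx, h, orderOf_one])
  have hxG : orderOf (x : G) = p := by rw [Subgroup.orderOf_coe]; exact hx
  set e := Nat.card (autP P) with he
  -- the elements of order `p` of `P`
  set Ω := Finset.univ.filter fun z : ↥(P : Subgroup G) => orderOf z = p with hΩ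
  have hΩconj : ∀ z : ↥(P : Subgroup G), orderOf z = p ↔ IsConj (x : G) (z : G) := fun z =>
    ⟨hclass z, fun h => by
      obtain ⟨g, hg⟩ := isConj_iff.1 h
      rw [← Subgroup.orderOf_coe, ← hg, SecondMain.orderOf_conj, hxG]⟩
  have hΩcard : Ω.card = e := by
    rw [hΩ, he, ← hS.card_conj_eq hx1]
    congr 1
    ext z
    simp [hΩconj z]
  have he2 : 2 ≤ e := by
    rw [← hΩcard]
    refine Finset.one_lt_card.2 ⟨x, by simp [hΩ, hx], x⁻¹, by simp [hΩ, hx], fun h => ?_⟩
    have h2 : x ^ 2 = 1 := by rw [sq]; nth_rw 2 [h]; exact mul_inv_cancel x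
    have := orderOf_dvd_of_pow_eq_one h2
    rw [hx] at this
    exact hp2 ((Nat.prime_dvd_prime_iff_eq hp.out Nat.prime_two).1 this)
  -- the size of `P`
  let φ : ↥(P : Subgroup G) →* ↥(P : Subgroup G) :=
    MonoidHom.mk' (fun z => z ^ p) fun a b => Commute.mul_pow (hab a b) p
  have hker : Nat.card φ.ker = e + 1 := by
    have h1 : (1 : ↥(P : Subgroup G)) ∉ Ω := by
      simp only [hΩ, Finset.mem_filter, orderOf_one]
      exact fun h => hp.out.one_lt.ne h.2
    rw [← hΩcard, ← Finset.card_insert_of_notMem h1, ← Nat.card_eq_finsetCard]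
    refine Nat.card_congr (Equiv.subtypeEquivRight fun z => ?_)
    rw [MonoidHom.mem_ker, Finset.mem_insert, hΩ, Finset.mem_filter]
    simp only [φ, MonoidHom.mk'_apply, Finset.mem_univ, true_and]
    constructor
    · intro h
      by_cases hz : z = 1
      · exact Or.inl hz
      · exact Or.inr (orderOf_eq_prime h hz)
    · rintro (rfl | h)
      · exact one_pow p
      · exact orderOf_dvd_iff_pow_eq_one.1 h.dvd
  have hN2 : (e + 1) * (e + 1) ≤ Nat.card ↥(P : Subgroup G) := by
    have hsub : φ.ker ≤ φ.range := by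
      intro z hz
      by_cases hz1 : z = 1
      · exact hz1 ▸ one_mem _
      have hzp : orderOf z = p := orderOf_eq_prime hz hz1
      obtain ⟨k, hk⟩ := IsPGroup.iff_orderOf.1 P.2 u
      have hk2 : 2 ≤ k := by
        by_contra h
        have : orderOf u ∣ p := by
          rw [hk]
          exact (pow_dvd_pow p (by omega : k ≤ 1)).trans (pow_one p).dvd
        exact hu (orderOf_dvd_iff_pow_eq_one.1 this)
      obtain ⟨l, rfl⟩ : ∃ l, k = l + 2 := ⟨k - 2, by omega⟩
      set x0 := (u ^ p ^ l) ^ p with hx0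
      have hx0p : orderOf x0 = p := by
        rw [hx0, ← pow_mul, ← pow_succ, orderOf_pow' _ (pow_ne_zero _ hp.out.ne_zero), hk,
          Nat.gcd_eq_right (pow_dvd_pow p (by omega : l + 1 ≤ l + 2)),
          Nat.pow_div (by omega) hp.out.pos]
        simp
      obtain ⟨a, ha, haz⟩ := hS.exists_aut ((hclass x0 hx0p).symm.trans (hclass z hzp))
      exact ⟨a (u ^ p ^ l), by
        show a (u ^ p ^ l) ^ p = z
        rw [← map_pow]; exact haz⟩
    have h1 : Nat.card φ.ker ≤ Nat.card φ.range := Subgroup.card_le_of_le hsub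
    have h2 := φ.ker.card_mul_index
    rw [Subgroup.index_ker] at h2
    rw [← h2, hker] at *
    exact Nat.mul_le_mul le_rfl h1
  set N := Nat.card ↥(P : Subgroup G) with hN
  obtain ⟨M, hM⟩ := Blocks.exists_isPModular hp.out
  obtain ⟨D⟩ := hS.exists_data hM (by rw [← he]; nlinarith)
  set Y := (D.ζ '' {ψ | ψ ≠ 1}).toFinset with hY
  set X := D.X.toFinset with hX
  set r := Nat.card (D.ζ '' {ψ | ψ ≠ 1}) with hr
  have hYr : Y.card = r := by rw [hr, Nat.card_eq_fintype_card, hY, Set.toFinset_card]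
  have her : e * r + 1 = N := D.card_Y
  have hre : e + 2 ≤ r := by
    by_contra h
    push Not at h
    nlinarith
  -- `d = 0`
  have hnorm := D.norm
  rw [finsum_mem_eq_toFinset_sum, ← hX, ← he, ← hr] at hnorm
  obtain ⟨χ₁, hχ₁, hf₁, ha₁⟩ := D.one
  have hχ₁X : χ₁ ∈ X := Set.mem_toFinset.2 hχ₁
  have hd : D.d = 0 := by
    by_contra hd
    have hd1 : 1 ≤ D.d ^ 2 := by
      rcases lt_or_gt_of_ne hd with h | h <;> nlinarith
    have hX1 : (D.a χ₁) ^ 2 ≤ ∑ χ ∈ X, D.a χ ^ 2 :=
      Finset.single_le_sum (f := fun χ => D.a χ ^ 2) (fun χ _ => sq_nonneg _) hχ₁X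
    rw [ha₁] at hX1
    have hr' : ((e : ℤ) + 1) ≤ ((r : ℤ) - 1) := by
      have : ((e + 2 : ℕ) : ℤ) ≤ (r : ℤ) := Int.ofNat_le.2 hre
      push_cast at this
      linarith
    nlinarith [sq_nonneg (D.d - D.δ), mul_le_mul hr' hd1 zero_le_one (by linarith)]
  have hδ2 : D.δ ^ 2 = 1 := by rcases D.sign with h | h <;> rw [h] <;> norm_num
  have hsumX : ∑ χ ∈ X, D.a χ ^ 2 = (e : ℤ) := by
    rw [hd] at hnorm
    linear_combination hnorm - hδ2
  -- values on the nontrivial elements of `P`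
  have hvX : ∀ χ ∈ X, ∀ v : ↥(P : Subgroup G), v ≠ 1 → (χ : G → ℂ) v = (D.a χ : ℂ) :=
    fun χ hχ v hv => valX_apply D (Set.mem_toFinset.1 hχ) hv (by rw [pp_of_mem])
  have hvY : ∀ ψ : Dual P, ψ ≠ 1 → ∀ v : ↥(P : Subgroup G), v ≠ 1 →
      (D.ζ ψ : G → ℂ) v = (D.δ : ℂ) * orb ψ v := fun ψ hψ v hv => by
    rw [D.valY ψ hψ (v : G) v hv (by
      have := isPPart_pp (p := p) (v : G)
      rwa [pp_of_mem] at this), hd, Int.cast_zero, zero_add]
  have horb : ∀ ψ : Dual P, ψ ≠ 1 → orb ψ x = (e : ℂ) ∨ orb ψ x = -1 := by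
    intro ψ hψ
    have h1 : orb ψ x = ∑ z ∈ Ω, lin ψ z := by
      have := Fintype.ofFinite (autP P)
      rw [orb, finsum_eq_sum_of_fintype]
      refine Finset.sum_bij (fun a _ => (a : MulAut ↥(P : Subgroup G)) x) ?_ ?_ ?_ (fun a _ => rfl)
      · intro a _
        simp only [hΩ, Finset.mem_filter, Finset.mem_univ, true_and]
        rw [hΩconj]
        exact isConj_aut a.2 x
      · intro a _ b _ h
        refine Subtype.ext (inv_mul_eq_one.mp (hS.fpf (mul_mem (inv_mem b.2) a.2) hx1 ?_)).symm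
        rw [MulAut.mul_apply, h, MulAut.inv_apply, MulEquiv.symm_apply_apply]
      · intro z hz
        obtain ⟨a, ha, hax⟩ := hS.exists_aut (y := x) (y' := z)
          ((hΩconj z).1 (Finset.mem_filter.1 hz).2)
        exact ⟨⟨a, ha⟩, Finset.mem_univ _, hax⟩
    by_cases htriv : ∀ z ∈ Ω, ψ z = 1
    · refine Or.inl ?_
      rw [h1, Finset.sum_congr rfl fun z hz => by rw [lin, htriv z hz, Units.val_one],
        Finset.sum_const, hΩcard]
      simp
    · refine Or.inr ?_
      push Not at htriv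
      obtain ⟨z₀, hz₀, hz₀1⟩ := htriv
      have := Fintype.ofFinite φ.ker
      let θ : φ.ker →* ℂˣ := ψ.comp φ.ker.subtype
      have hz₀k : z₀ ∈ φ.ker := by
        rw [MonoidHom.mem_ker]
        show z₀ ^ p = 1
        exact orderOf_dvd_iff_pow_eq_one.1 (Finset.mem_filter.1 hz₀).2.dvd
      have hsum : ∑ z : φ.ker, ((θ z : ℂˣ) : ℂ) = 0 :=
        sum_hom_units_eq_zero ((Units.coeHom ℂ).comp θ) (fun h => hz₀1
          (Units.ext (by simpa [θ] using DFunLike.congr_fun h (⟨z₀, hz₀k⟩ : φ.ker))))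
      have h2 : ∑ z : φ.ker, ((θ z : ℂˣ) : ℂ) = 1 + ∑ z ∈ Ω, lin ψ z := by
        have hins : (Finset.univ.filter fun z : ↥(P : Subgroup G) => z ∈ φ.ker) = insert 1 Ω := by
          ext z
          simp only [Finset.mem_filter, Finset.mem_univ, true_and, Finset.mem_insert, hΩ,
            MonoidHom.mem_ker]
          constructor
          · intro h
            by_cases hz : z = 1
            · exact Or.inl hz
            · exact Or.inr (orderOf_eq_prime h hz)
          · rintro (rfl | h)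
            · exact one_pow p
            · show z ^ p = 1
              exact orderOf_dvd_iff_pow_eq_one.1 h.dvd
        have h3 : ∑ z : φ.ker, ((θ z : ℂˣ) : ℂ) = ∑ z ∈ insert 1 Ω, lin ψ z := by
          rw [← hins]
          refine Finset.sum_bij (fun z _ => (z : ↥(P : Subgroup G))) (fun z _ => Finset.mem_filter.2 ⟨Finset.mem_univ _, z.2⟩)
            (fun a _ b _ h => Subtype.ext h) (fun z hz => ⟨⟨z, (Finset.mem_filter.1 hz).2⟩,
              Finset.mem_univ _, rfl⟩) (fun z _ => rfl)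
        rw [h3, Finset.sum_insert (by
          simp only [hΩ, Finset.mem_filter, orderOf_one]
          exact fun h => hp.out.one_lt.ne h.2)]
        simp [lin]
      rw [h1]
      linear_combination hsum - h2
  -- integral values at `x`
  have hYval : ∀ η ∈ Y, ∃ c : ℤ, (c = e ∨ c = -1) ∧ (η : G → ℂ) x = ((D.δ * c : ℤ) : ℂ) := by
    intro η hη
    obtain ⟨ψ, hψ, rfl⟩ := Set.mem_toFinset.1 hη
    rcases horb ψ hψ with h | h
    · exact ⟨e, Or.inl rfl, by rw [hvY ψ hψ x hx1, h]; push_cast; rfl⟩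
    · exact ⟨-1, Or.inr rfl, by rw [hvY ψ hψ x hx1, h]; push_cast; rfl⟩
  choose! c hcv hcY using hYval
  have hBsplit : (principalBlock M G).toFinset = X ∪ Y := by
    rw [hX, hY, ← Set.toFinset_union]
    exact Set.toFinset_congr D.block
  have hXYdis : Disjoint X Y := Set.disjoint_toFinset.2 D.disj
  set B := (principalBlock M G).toFinset with hB
  set C := centralizer ({(x : G)} : Set G) with hC
  have hxk : ∃ k, orderOf (x : G) = p ^ k := ⟨1, by rw [hxG, pow_one]⟩
  have hsq : (N : ℂ) = ∑ χ ∈ B, (χ : G → ℂ) x * conj ((χ : G → ℂ) x) := by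
    have h := sum_sq_principal_of_complement hM hxk (H := C)
      (fun _ => commute_iff_mem_centralizer_singleton) (hH.complement hxk fun h => hx1 (Subtype.ext h))
    rw [finsum_mem_eq_toFinset_sum] at h
    have hR := PairsRegular.regular_card_mul_sylow (H := C)
      (hH.complement hxk fun h => hx1 (Subtype.ext h)) P fun v hv =>
        mem_centralizer_singleton_iff.2 (congrArg Subtype.val (hab (⟨v, hv⟩) x))
    rw [← hR, Nat.cast_mul] at h
    refine (mul_left_cancel₀ ?_ h).symm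
    refine Nat.cast_ne_zero.2 (Finset.card_pos.2 ⟨1, Finset.mem_filter.2 ⟨Finset.mem_univ _, ?_⟩⟩).ne'
    simpa using hp.out.one_lt.ne'
  have hsumY : ∑ η ∈ Y, (c η) ^ 2 = (N : ℤ) - e := by
    have h : ((∑ η ∈ Y, (c η) ^ 2 : ℤ) : ℂ) = (((N : ℤ) - e : ℤ) : ℂ) := by
      have eX : ∑ χ ∈ X, (χ : G → ℂ) x * conj ((χ : G → ℂ) x) =
          ((∑ χ ∈ X, D.a χ ^ 2 : ℤ) : ℂ) := by
        rw [Int.cast_sum]
        exact Finset.sum_congr rfl fun χ hχ => by
          rw [hvX χ hχ x hx1, map_intCast, Int.cast_pow, sq]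
      have eY : ∑ η ∈ Y, (η : G → ℂ) x * conj ((η : G → ℂ) x) =
          ((∑ η ∈ Y, (c η) ^ 2 : ℤ) : ℂ) := by
        rw [Int.cast_sum]
        exact Finset.sum_congr rfl fun η hη => by
          rw [hcY η hη, map_intCast, ← Int.cast_mul,
            show D.δ * c η * (D.δ * c η) = c η ^ 2 by linear_combination c η ^ 2 * hδ2]
      rw [Int.cast_sub, Int.cast_natCast (R := ℂ) N, hsq, hBsplit, Finset.sum_union hXYdis, eX, eY,
        hsumX]
      ring
    exact_mod_cast h
  -- degrees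
  have hdeg : ∀ χ : IrrCharacter G, ∃ n : ℕ, (χ : G → ℂ) 1 = (n : ℂ) := fun χ =>
    Char.IsCharacter.exists_degree (Char.IsIrrCharacter.isCharacter χ.2)
  choose f hf using hdeg
  have hfpos : ∀ χ, 0 < f χ := fun χ => Nat.pos_of_ne_zero fun h =>
    Char.IsIrrCharacter.apply_one_ne_zero χ.2 (by rw [hf, h, Nat.cast_zero])
  have hfX : ∀ χ ∈ X.erase χ₁, D.a χ + (N : ℤ) ≤ (f χ : ℤ) := by
    intro χ hχ
    obtain ⟨hne, hχX⟩ := Finset.mem_erase.1 hχ
    obtain ⟨η, hη⟩ : ∃ η : IrrCharacter ↥(P : Subgroup G), η ≠ BrauerPairs.oneIrr _ := by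
      haveI : Nontrivial (IrrCharacter ↥(P : Subgroup G)) := by
        rw [← Finite.one_lt_card_iff_nontrivial, Char.card_irr_eq_card_conjClasses,
          Char.card_conjClasses_of_comm hab, ← hN]
        nlinarith
      exact exists_ne _
    have hη1 : (η : ↥(P : Subgroup G) → ℂ) 1 = 1 := Char.apply_one_eq_one_of_comm hab η
    have hsum : ∑ g : ↥(P : Subgroup G), (η : ↥(P : Subgroup G) → ℂ) g = 0 := by
      have h := Char.card_mul_classInner (η : ↥(P : Subgroup G) → ℂ)
        ((BrauerPairs.oneIrr _ : IrrCharacter ↥(P : Subgroup G)) : ↥(P : Subgroup G) → ℂ)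
      rw [Char.classInner_irr_of_ne η.2 (BrauerPairs.oneIrr _).2 (fun h' => hη (Subtype.ext h')),
        mul_zero] at h
      rw [h]
      exact Finset.sum_congr rfl fun g _ => by simp [BrauerPairs.oneIrr]
    obtain ⟨m, hm⟩ := Char.IsCharacter.classInner_nat
      (Char.IsCharacter.restrict (Char.IsIrrCharacter.isCharacter χ.2) (P : Subgroup G))
      (Char.IsIrrCharacter.isCharacter η.2)
    have h1 := Char.card_mul_classInner (fun g : ↥(P : Subgroup G) => (χ : G → ℂ) (g : G))
      (η : ↥(P : Subgroup G) → ℂ)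
    rw [hm] at h1
    have h2 : ∀ g : ↥(P : Subgroup G), (χ : G → ℂ) (g : G) * conj ((η : ↥(P : Subgroup G) → ℂ) g) =
        (if g = 1 then ((f χ : ℂ) - (D.a χ : ℂ)) else 0) +
          (D.a χ : ℂ) * conj ((η : ↥(P : Subgroup G) → ℂ) g) := by
      intro g
      by_cases hg : g = 1
      · subst hg
        rw [if_pos rfl, Subgroup.coe_one, hf, hη1, map_one]
        ring
      · rw [if_neg hg, hvX χ hχX g hg, zero_add]
    rw [Finset.sum_congr rfl fun g _ => h2 g, Finset.sum_add_distrib, ← Finset.mul_sum, ← map_sum,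
      hsum, map_zero, mul_zero, add_zero, Finset.sum_ite_eq' Finset.univ (1 : ↥(P : Subgroup G)),
      if_pos (Finset.mem_univ _), ← hN] at h1
    have h3 : (N : ℤ) * m = (f χ : ℤ) - D.a χ := by exact_mod_cast h1
    rcases Nat.eq_zero_or_pos m with rfl | hm0
    · exfalso
      refine hx1 (Subtype.ext (PairsRegular.eq_one_of_apply_eq_degree (χ := χ) (fun h => hne ?_) ?_))
      · rw [h]; exact Subtype.ext hf₁.symm
      · rw [hvX χ hχX x hx1, hf]
        rw [Nat.cast_zero, mul_zero] at h3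
        exact_mod_cast (show D.a χ = (f χ : ℤ) by linarith)
    · nlinarith
  have hYeq : ∀ η ∈ Y, ∀ η' ∈ Y, f η = f η' := fun η hη η' hη' => by
    have := D.eq_regular hS (Set.mem_toFinset.1 hη) (Set.mem_toFinset.1 hη')
      (g := (1 : G)) (by simpa using hp.out.one_lt.ne')
    rw [hf, hf] at this
    exact_mod_cast this
  have hfY : ∀ η ∈ Y, (N : ℤ) - e ≤ (f η : ℤ) := by
    intro η hη
    obtain ⟨ψ, hψ, rfl⟩ := Set.mem_toFinset.1 hη
    obtain ⟨b, hb⟩ := Char.IsCharacter.classInner_nat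
      (Char.IsCharacter.restrict (Char.IsIrrCharacter.isCharacter (D.ζ ψ).2) (P : Subgroup G))
      (Char.IsIrrCharacter.isCharacter (BrauerPairs.oneIrr ↥(P : Subgroup G)).2)
    have h1 := Char.card_mul_classInner (fun g : ↥(P : Subgroup G) => (D.ζ ψ : G → ℂ) (g : G))
      ((BrauerPairs.oneIrr ↥(P : Subgroup G) : IrrCharacter ↥(P : Subgroup G)) : ↥(P : Subgroup G) → ℂ)
    rw [hb] at h1
    have h2 : ∀ g : ↥(P : Subgroup G), (D.ζ ψ : G → ℂ) (g : G) =
        (if g = 1 then ((f (D.ζ ψ) : ℂ) - (D.δ : ℂ) * (e : ℂ)) else 0) + (D.δ : ℂ) * orb ψ g := by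
      intro g
      by_cases hg : g = 1
      · subst hg
        rw [if_pos rfl, Subgroup.coe_one, hf, orb_apply_one, ← he]
        ring
      · rw [if_neg hg, hvY ψ hψ g hg, zero_add]
    simp only [BrauerPairs.oneIrr, map_one, mul_one] at h1
    rw [Finset.sum_congr rfl fun g _ => h2 g, Finset.sum_add_distrib, ← Finset.mul_sum,
      show ∑ i : ↥(P : Subgroup G), orb ψ i = 0 from (Finset.sum_congr (by ext; simp) fun _ _ => rfl).trans (hS.sum_orb hψ),
      mul_zero, add_zero, Finset.sum_ite_eq' Finset.univ (1 : ↥(P : Subgroup G)),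
      if_pos (Finset.mem_univ _), ← hN] at h1
    have h3 : (N : ℤ) * b = (f (D.ζ ψ) : ℤ) - D.δ * e := by exact_mod_cast h1
    rcases Nat.eq_zero_or_pos b with rfl | hb0
    · exfalso
      -- some exceptional character takes its degree at `x`
      obtain ⟨η, hη', hce⟩ : ∃ η ∈ Y, c η = (e : ℤ) := by
        by_contra hcon
        push Not at hcon
        have h4 : ∑ η ∈ Y, (c η) ^ 2 = (r : ℤ) := by
          rw [Finset.sum_congr rfl fun η hη => by
            rw [(hcv η hη).resolve_left (hcon η hη)], Finset.sum_const, hYr]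
          simp
        rw [hsumY] at h4
        have h5 : ((e : ℤ) * r + 1) = N := by exact_mod_cast her
        have h6 : ((e : ℤ) + 2) ≤ (r : ℤ) := by exact_mod_cast hre
        nlinarith [Int.ofNat_le.2 he2]
      have hne1 : η ≠ BrauerPairs.oneIrr G := fun h =>
        Finset.disjoint_left.1 hXYdis hχ₁X (by
          rw [show χ₁ = η from h ▸ Subtype.ext hf₁]; exact hη')
      refine hx1 (Subtype.ext (PairsRegular.eq_one_of_apply_eq_degree hne1 ?_))
      rw [hcY η hη', hce, hf, hYeq η hη' _ hη]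
      rw [Nat.cast_zero, mul_zero] at h3
      exact_mod_cast (show D.δ * (e : ℤ) = (f (D.ζ ψ) : ℤ) by linarith)
    · rcases D.sign with h | h <;> rw [h] at h3 <;> nlinarith
  -- half of the pairs have singular product
  set K := Finset.univ.filter fun g : G => IsConj (x : G) g with hK
  set S := ((K ×ˢ K).filter fun q => p ∣ orderOf (q.1 * q.2)) with hSd
  have memK : ∀ g, g ∈ K → CentType p g := fun g hg =>
    (hH.centType_of_central x.2 (mem_centralizer_iff.2 fun v hv =>
      congrArg Subtype.val (hab (⟨v, hv⟩) x)) hxG).of_isConj (Finset.mem_filter.1 hg).2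
  have hKinv : ∀ g ∈ K, g⁻¹ ∈ K := fun g hg => by
    refine Finset.mem_filter.2 ⟨Finset.mem_univ _, ?_⟩
    obtain ⟨a, ha⟩ := isConj_iff.1 (Finset.mem_filter.1 hg).2
    have hxi : IsConj (x : G) ((x : G)⁻¹) := by
      have := hclass x⁻¹ (by rw [orderOf_inv, hx])
      simpa using this
    exact hxi.trans (isConj_iff.2 ⟨a, by rw [← ha]; simp [mul_assoc]⟩)
  have hPall : ∀ Q : Sylow p G, IsMulCommutative ↥(Q : Subgroup G) := fun Q =>
    ⟨⟨fun a b => (P.equiv Q).symm.injective (by rw [map_mul, map_mul]; exact mul_comm' _ _)⟩⟩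
  have hlow : K.card ^ 2 ≤ 2 * S.card := by
    have hinj : ((K ×ˢ K).filter fun q => ¬ p ∣ orderOf (q.1 * q.2)).card ≤ S.card := by
      refine Finset.card_le_card_of_injOn (fun q => (q.1, q.2⁻¹)) (fun q hq => ?_)
        (fun q _ q' _ h => by simpa [Prod.ext_iff] using h)
      simp only [Finset.coe_filter, Set.mem_ofPred_eq, Finset.mem_product] at hq
      simp only [hSd, Finset.coe_filter, Set.mem_ofPred_eq, Finset.mem_product]
      refine ⟨⟨hq.1.1, hKinv _ hq.1.2⟩, ?_⟩
      by_contra hcon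
      have h1 := (memK _ hq.1.1).1
      have h2 := (memK _ hq.1.2).1
      refine PairsRegular.not_both_regular hPall h1 h2 (hc _ _ h1 h2) (i := 1) (j := p - 1) ?_
        (by rw [pow_one]; exact hq.2) ?_
      · rw [Nat.mod_eq_of_lt (by omega), Nat.mod_eq_of_lt (by omega)]
        omega
      · have : q.2 ^ (p - 1) = q.2⁻¹ := eq_inv_of_mul_eq_one_left (by
          rw [← pow_succ, Nat.sub_add_cancel hp.out.pos, ← h2, pow_orderOf_eq_one])
        rw [this]
        exact hcon
    have hsplit := Finset.card_filter_add_card_filter_not (s := K ×ˢ K)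
      (fun q : G × G => p ∣ orderOf (q.1 * q.2))
    rw [← hSd, Finset.card_product, ← sq] at hsplit
    omega
  -- the count of the singular pairs
  let F : G → ℂ := fun g => (Nat.card {q : G × G // IsConj (x : G) q.1 ∧ IsConj (x : G) q.2 ∧ q.1 * q.2 = g} : ℂ)
  have hKc : (Nat.card {y : G // IsConj (x : G) y} : ℂ) = (K.card : ℂ) := by
    rw [Nat.card_eq_fintype_card, Fintype.card_subtype]
  have hF : ∀ g, F g = (K.card : ℂ) * (K.card : ℂ) / (Nat.card G : ℂ) * ∑ χ : IrrCharacter G,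
      (χ : G → ℂ) x * (χ : G → ℂ) x * conj ((χ : G → ℂ) g) / (χ : G → ℂ) 1 := fun g => by
    simp only [F]
    rw [Char.class_mult_formula (x : G) (x : G) g, hKc]
  have hFcl : IsClassFunction G F := fun g h => by
    simp only [hF, irr_class _ g h]
  have hScard : (S.card : ℂ) = ∑ g ∈ Finset.univ.filter (fun g => IsConj (x : G) (pp p g)), F g := by
    have e1 : ∀ g ∈ Finset.univ.filter (fun g => IsConj (x : G) (pp p g)),
        F g = ((S.filter fun q => q.1 * q.2 = g).card : ℂ) := by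
      intro g hg
      have hg' : p ∣ orderOf g := by
        by_contra h
        have h1 := (Finset.mem_filter.1 hg).2
        rw [pp_eq_one_iff.2 h, isConj_one_left] at h1
        exact hx1 (Subtype.ext h1)
      simp only [F, Nat.card_eq_fintype_card, Fintype.card_subtype]
      congr 2
      ext q
      simp only [hSd, hK, Finset.mem_filter, Finset.mem_univ, true_and, Finset.mem_product]
      constructor
      · rintro ⟨h1, h2, h3⟩
        exact ⟨⟨⟨h1, h2⟩, h3 ▸ hg'⟩, h3⟩
      · rintro ⟨⟨⟨h1, h2⟩, -⟩, h3⟩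
        exact ⟨h1, h2, h3⟩
    rw [Finset.sum_congr rfl e1, ← Nat.cast_sum]
    congr 1
    refine Finset.card_eq_sum_card_fiberwise fun q hq => ?_
    obtain ⟨hq1, hq2⟩ := Finset.mem_filter.1 hq
    obtain ⟨ha, hb⟩ := Finset.mem_product.1 hq1
    refine Finset.mem_filter.2 ⟨Finset.mem_univ _, ?_⟩
    have hsm := (hH.pair (memK _ ha) (memK _ hb) (hc _ _ (memK _ ha).1 (memK _ hb).1)).1
    have hne1 : pp p (q.1 * q.2) ≠ 1 := fun h => pp_eq_one_iff.1 h hq2
    obtain ⟨y, hy⟩ := exists_rep P (q.1 * q.2)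
    have hyp : orderOf y = p := by
      rw [← Subgroup.orderOf_coe]
      exact ((hsm.resolve_left hne1).of_isConj hy).1
    exact ((hclass y hyp).trans hy.symm)
  set A := ∑ χ ∈ B, (χ : G → ℂ) x * (χ : G → ℂ) x * conj ((χ : G → ℂ) x) / (χ : G → ℂ) 1 with hA
  have hS3 : (N : ℂ) * (S.card : ℂ) = (K.card : ℂ) ^ 2 * A := by
    haveI := nonempty_fib (p := p) x
    have hfibsum : ∀ Φ : G → ℂ, ∑ g ∈ Finset.univ.filter (fun g => pp p g = (x : G)), Φ g =
        (Nat.card (fib p (x : G)) : ℂ) * avg p Φ (x : G) := fun Φ => by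
      rw [avg_mul]
    have h := sum_class_section (p := p) hFcl (x : G)
    rw [← hScard] at h
    have h2 : ∑ g ∈ Finset.univ.filter (fun g => pp p g = (x : G)), F g =
        (K.card : ℂ) * (K.card : ℂ) / (Nat.card G : ℂ) * ((Nat.card (fib p (x : G)) : ℂ) * A) := by
      simp only [hF, ← Finset.mul_sum]
      rw [Finset.sum_comm, hA, Finset.mul_sum (s := B)]
      congr 1
      rw [← Finset.sum_subset (Finset.subset_univ B) fun χ _ hχ => ?_]
      · refine Finset.sum_congr rfl fun χ hχ => ?_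
        rw [← Finset.sum_div, ← Finset.mul_sum, ← map_sum, hfibsum,
          (hS.apply_eq_avg hM (Set.mem_toFinset.1 hχ) hx1 (pp_of_mem x)).2, map_mul, map_natCast]
        ring
      · rw [← Finset.sum_div, ← Finset.mul_sum, ← map_sum, hfibsum,
          hS.avg_eq_zero_of_notMem hM (fun h' => hχ (Set.mem_toFinset.2 h')) hx1]
        simp
    rw [h2, ← hS.card_fib_mul hx1, ← hN] at h
    have hfib : (Nat.card (fib p (x : G)) : ℂ) ≠ 0 := Nat.cast_ne_zero.2 Nat.card_pos.ne'
    have hG0 : (Nat.card G : ℂ) ≠ 0 := Nat.cast_ne_zero.2 Nat.card_pos.ne'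
    push_cast at h
    field_simp at h
    linear_combination h
  -- the upper bound
  let t : IrrCharacter G → ℝ := fun χ =>
    if χ ∈ X then (D.a χ : ℝ) ^ 3 / (f χ : ℝ) else ((D.δ * c χ : ℤ) : ℝ) ^ 3 / (f χ : ℝ)
  have hAt : A = ((∑ χ ∈ B, t χ : ℝ) : ℂ) := by
    rw [hA, Complex.ofReal_sum]
    refine Finset.sum_congr rfl fun χ hχ => ?_
    by_cases hχX : χ ∈ X
    · simp only [t, if_pos hχX, hvX χ hχX x hx1, hf, map_intCast]
      push_cast
      ring
    · have hχY : χ ∈ Y := by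
        rw [hBsplit, Finset.mem_union] at hχ
        exact hχ.resolve_left hχX
      simp only [t, if_neg hχX, hcY χ hχY, hf, map_intCast]
      push_cast
      ring
  have hS3R : (N : ℝ) * (S.card : ℝ) = (K.card : ℝ) ^ 2 * ∑ χ ∈ B, t χ := by
    have h : (((N : ℝ) * (S.card : ℝ) : ℝ) : ℂ) = (((K.card : ℝ) ^ 2 * ∑ χ ∈ B, t χ : ℝ) : ℂ) := by
      push_cast
      rw [hS3, hAt]
      push_cast
      rfl
    exact_mod_cast h
  have heR : (2 : ℝ) ≤ (e : ℝ) := by exact_mod_cast he2
  have hNR : ((e : ℝ) + 1) * ((e : ℝ) + 1) ≤ (N : ℝ) := by exact_mod_cast hN2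
  have hNe : 0 < (N : ℝ) - (e : ℝ) := by nlinarith
  have hupX : ∑ χ ∈ X, t χ < 2 := by
    rw [← Finset.add_sum_erase X t hχ₁X]
    have h1 : t χ₁ = 1 := by
      have : f χ₁ = 1 := by
        have := hf χ₁
        rw [hf₁] at this
        simp only at this
        exact_mod_cast this.symm
      simp [t, if_pos hχ₁X, ha₁, this]
    rw [h1]
    have hsumR : ∑ χ ∈ X.erase χ₁, (D.a χ : ℝ) ^ 2 = (e : ℝ) - 1 := by
      have h : ∑ χ ∈ X.erase χ₁, (D.a χ) ^ 2 = (e : ℤ) - 1 := by
        rw [Finset.sum_erase_eq_sub hχ₁X, hsumX, ha₁, one_pow]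
      exact_mod_cast h
    have hterm : ∀ χ ∈ X.erase χ₁, t χ ≤ (D.a χ : ℝ) ^ 2 * (((e : ℝ) - 1) / (N : ℝ)) := by
      intro χ hχ
      simp only [t, if_pos (Finset.mem_of_mem_erase hχ)]
      have hfp : (0 : ℝ) < (f χ : ℝ) := Nat.cast_pos.2 (hfpos χ)
      rcases le_or_gt ((D.a χ : ℝ)) 0 with ha | ha
      · refine le_trans (div_nonpos_of_nonpos_of_nonneg (by nlinarith [sq_nonneg (D.a χ : ℝ)]) hfp.le) ?_
        exact mul_nonneg (sq_nonneg _) (div_nonneg (by linarith) (Nat.cast_nonneg _))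
      · have hfN : (D.a χ : ℝ) + (N : ℝ) ≤ (f χ : ℝ) := by exact_mod_cast hfX χ hχ
        have hae : (D.a χ : ℝ) ≤ (e : ℝ) - 1 := by
          have ha1 : (1 : ℝ) ≤ (D.a χ : ℝ) := by
            have : (0 : ℤ) < D.a χ := by exact_mod_cast ha
            exact_mod_cast (show (1 : ℤ) ≤ D.a χ by omega)
          have := Finset.single_le_sum (f := fun χ => (D.a χ : ℝ) ^ 2) (fun χ _ => sq_nonneg _) hχ
          rw [hsumR] at this
          nlinarith
        rw [← mul_div_assoc, div_le_div_iff₀ hfp (by nlinarith)]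
        calc (D.a χ : ℝ) ^ 3 * (N : ℝ) = (D.a χ : ℝ) ^ 2 * ((D.a χ : ℝ) * (N : ℝ)) := by ring
          _ ≤ (D.a χ : ℝ) ^ 2 * (((e : ℝ) - 1) * (f χ : ℝ)) := by
            refine mul_le_mul_of_nonneg_left ?_ (sq_nonneg _)
            exact mul_le_mul hae (by linarith) (Nat.cast_nonneg _) (by linarith)
          _ = _ := by ring
    have h2 := Finset.sum_le_sum hterm
    rw [← Finset.sum_mul, hsumR] at h2
    have h3 : ((e : ℝ) - 1) * (((e : ℝ) - 1) / (N : ℝ)) < 1 := by
      rw [← mul_div_assoc, div_lt_one (by nlinarith)]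
      nlinarith
    linarith
  have hupY : ∑ η ∈ Y, t η ≤ (e : ℝ) := by
    have hterm : ∀ η ∈ Y, t η ≤ ((c η : ℤ) : ℝ) ^ 2 * ((e : ℝ) / ((N : ℝ) - e)) := by
      intro η hη
      simp only [t, if_neg (Finset.disjoint_right.1 hXYdis hη)]
      have hfp : (0 : ℝ) < (f η : ℝ) := Nat.cast_pos.2 (hfpos η)
      have hfN : (N : ℝ) - (e : ℝ) ≤ (f η : ℝ) := by exact_mod_cast hfY η hη
      have hv : (((D.δ * c η : ℤ) : ℝ)) ≤ (e : ℝ) := by
        have : D.δ * c η ≤ (e : ℤ) := by
          have he' : (2 : ℤ) ≤ (e : ℤ) := by exact_mod_cast he2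
          rcases D.sign with h | h <;> rcases hcv η hη with h' | h' <;> rw [h, h'] <;> omega
        exact_mod_cast this
      have hsq' : (((D.δ * c η : ℤ) : ℝ)) ^ 2 = ((c η : ℤ) : ℝ) ^ 2 := by
        rw [Int.cast_mul, mul_pow]
        rcases D.sign with h | h <;> rw [h] <;> simp
      rw [← mul_div_assoc, div_le_div_iff₀ hfp hNe]
      calc ((D.δ * c η : ℤ) : ℝ) ^ 3 * ((N : ℝ) - e)
          = ((c η : ℤ) : ℝ) ^ 2 * (((D.δ * c η : ℤ) : ℝ) * ((N : ℝ) - e)) := by rw [← hsq']; ring
        _ ≤ ((c η : ℤ) : ℝ) ^ 2 * ((e : ℝ) * (f η : ℝ)) := by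
          refine mul_le_mul_of_nonneg_left ?_ (sq_nonneg _)
          exact mul_le_mul hv hfN hNe.le (by linarith)
        _ = _ := by ring
    refine le_trans (Finset.sum_le_sum hterm) ?_
    rw [← Finset.sum_mul]
    have hsY : ∑ η ∈ Y, ((c η : ℤ) : ℝ) ^ 2 = (N : ℝ) - e := by exact_mod_cast hsumY
    rw [hsY, mul_div_cancel₀ _ hNe.ne']
  have hKpos : (0 : ℝ) < (K.card : ℝ) := Nat.cast_pos.2
    (Finset.card_pos.2 ⟨x, Finset.mem_filter.2 ⟨Finset.mem_univ _, IsConj.refl _⟩⟩)
  have hlowR : (K.card : ℝ) ^ 2 ≤ 2 * (S.card : ℝ) := by exact_mod_cast hlow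
  have hbig : (N : ℝ) ≤ 2 * ∑ χ ∈ B, t χ := by
    refine le_of_mul_le_mul_left ?_ (pow_pos hKpos 2)
    nlinarith [mul_le_mul_of_nonneg_left hlowR (Nat.cast_nonneg N : (0 : ℝ) ≤ N)]
  rw [hBsplit, Finset.sum_union hXYdis] at hbig
  nlinarith

/-- The simple case. -/
theorem false_of_setup [IsSimpleGroup G] (hG : ¬ IsMulCommutative G) (hH : Hyp P) (hS : Setup P)
    (hc : PairSolv p G) (hp2 : p ≠ 2) : False := by
  by_cases hB : ∃ x x' : ↥(P : Subgroup G), orderOf x = p ∧ orderOf x' = p ∧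
      ¬ IsConj (x' : G) (x : G)⁻¹
  · obtain ⟨x, x', hx, hx', hne⟩ := hB
    exact false_of_two_classes hG hH hS hc hx hx' hne
  push Not at hB
  obtain ⟨v, hvP, hvC, hv⟩ := hH.exists_central
  let x : ↥(P : Subgroup G) := ⟨v, hvP⟩
  have hx : orderOf x = p := by rw [Subgroup.orderOf_mk]; exact hv
  have hclass : ∀ z : ↥(P : Subgroup G), orderOf z = p → IsConj (x : G) (z : G) := fun z hz =>
    (hB x x hx hx).trans (hB x z hx hz).symm
  by_cases hu : ∃ u : ↥(P : Subgroup G), u ^ p ≠ 1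
  · obtain ⟨u, hu⟩ := hu
    exact false_of_one_class hH hS hc hp2 hx hclass hu
  push Not at hu
  refine hp2 (PairsRegular.eq_two_of_pairs hG P (fun h => hH.notNormal (h ▸ inferInstance))
    ⟨hS.comm, fun a ha => congrArg Subtype.val (hu ⟨a, ha⟩)⟩ (fun a ha b hb ha1 hb1 => ?_) hH.cent hc)
  have hord : ∀ w : ↥(P : Subgroup G), w ≠ 1 → IsConj (x : G) (w : G) := fun w hw =>
    hclass w (orderOf_eq_prime (hu w) hw)
  exact isConj_iff.1 ((hord ⟨a, ha⟩ fun h => ha1 (congrArg Subtype.val h)).symm.trans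
    (hord ⟨b, hb⟩ fun h => hb1 (congrArg Subtype.val h)))

/-- For odd `p` there is no such group. -/
theorem Hyp.false_of_odd (hH : Hyp P) (hc : PairSolv p G) (hp2 : p ≠ 2) : False := by
  haveI hcomm := hH.comm_of_odd hp2 hc
  obtain ⟨E, hE, hsimple, hEnc, -, hpE⟩ := hH.exists_simple
  haveI := hE
  haveI := hsimple
  have hPC : (P : Subgroup G) ≤ centralizer ((P : Subgroup G) : Set G) := fun u hu =>
    mem_centralizer_iff.2 fun v hv =>
      congrArg Subtype.val (mul_comm' (⟨v, hv⟩ : ↥(P : Subgroup G)) ⟨u, hu⟩)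
  have hPE : (P : Subgroup G) ≤ E := hH.le_of_inf_le_centralizer hE
    (fun h => hEnc (h ▸ inferInstance)) (inf_le_left.trans hPC)
  obtain ⟨Q, hQe, -⟩ := exists_sylow_inf P E
  have hQcomm : IsMulCommutative ↥(Q : Subgroup E) := ⟨⟨fun a b => Subtype.ext (Subtype.ext (by
    have ha := a.2
    have hb := b.2
    simp only [hQe, mem_subgroupOf] at ha hb
    simp only [Subgroup.coe_mul]
    exact congrArg Subtype.val (mul_comm' (⟨((a : E) : G), ha⟩ : ↥(P : Subgroup G)) ⟨((b : E) : G), hb⟩)))⟩⟩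
  have hcomp : ∀ x : E, (∃ k, orderOf x = p ^ k) → x ≠ 1 →
      HasNormalPComplement p ↥(centralizer ({x} : Set E)) := fun x hx hx1 => by
    obtain ⟨k, hk⟩ := hx
    refine Transfer.hasNormalPComplement_of_injective (hH.complement (y := (x : G))
      ⟨k, by rw [Subgroup.orderOf_coe, hk]⟩ fun h => hx1 (Subtype.ext h))
      (MonoidHom.codRestrict (E.subtype.comp (centralizer ({x} : Set E)).subtype) _ fun w =>
        mem_centralizer_singleton_iff.2 (congrArg Subtype.val (mem_centralizer_singleton_iff.1 w.2)))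
      ?_
    intro a b h
    exact Subtype.ext (Subtype.ext (congrArg (fun z : ↥(centralizer ({(x : G)} : Set G)) => (z : G)) h))
  haveI := hQcomm
  have hHE : Hyp Q := by
    refine ⟨?_, fun hn => ?_, fun x hx g hg => ?_, fun x hx hxp => hcomp x ⟨1, by rw [hxp, pow_one]⟩
      fun h => hp.out.one_lt.ne' (by rw [← hxp, h, orderOf_one])⟩
    · refine (Cores.pPrimeCore_normal p E).eq_bot_or_eq_top.resolve_right fun h => ?_
      have h1 : ¬ p ∣ Nat.card (Cfsg.pPrimeCore p E) := Cores.not_dvd_card_pPrimeCore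
      rw [h, card_top] at h1
      exact h1 hpE
    · rcases hn.eq_bot_or_eq_top with h | h
      · have := Q.dvd_card_of_dvd_card hpE
        rw [h, card_bot] at this
        exact hp.out.one_lt.ne' (Nat.dvd_one.1 this)
      · exact hEnc ⟨⟨fun a b => congrArg Subtype.val
          (mul_comm' (⟨a, h ▸ mem_top a⟩ : ↥(Q : Subgroup E)) ⟨b, h ▸ mem_top b⟩)⟩⟩
    · exact Transfer.normalizer_control_of_comm Q x hx g hg
  refine false_of_setup hEnc hHE ⟨hQcomm, fun y hy hy1 => le_antisymm ?_ (le_inf ?_ ?_)⟩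
    (fun a b ha hb => ?_) hp2
  · rintro n ⟨hny, hnN⟩
    obtain ⟨a, b, hdec, hza, hzb, ⟨j, hj⟩, hcop⟩ := Transfer.exists_pPart_mul (p := p) n
    have haN : a ∈ normalizer ((Q : Subgroup E) : Set E) := (zpowers_le.2 hnN) hza
    have hbN : b ∈ normalizer ((Q : Subgroup E) : Set E) := (zpowers_le.2 hnN) hzb
    have haQ : a ∈ (Q : Subgroup E) := by
      have hp1 : IsPGroup p ↥(zpowers a) := IsPGroup.of_card (n := j) (by rw [Nat.card_zpowers, hj])
      have hp2' := IsPGroup.to_sup_of_normal_right' hp1 Q.2 (zpowers_le.2 haN)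
      exact (Q.3 hp2' le_sup_right) ▸ mem_sup_left (mem_zpowers a)
    have haC : a ∈ centralizer ((Q : Subgroup E) : Set E) := mem_centralizer_iff.2 fun v hv =>
      congrArg Subtype.val (mul_comm' (⟨v, hv⟩ : ↥(Q : Subgroup E)) ⟨a, haQ⟩)
    rw [hdec]
    refine mul_mem haC (hHE.semiregular hbN (hp.out.coprime_iff_not_dvd.1 hcop.symm) hy hy1 ?_)
    exact mem_centralizer_singleton_iff.1 ((zpowers_le.2 hny) hzb)
  · exact fun u hu => mem_centralizer_singleton_iff.2 (mem_centralizer_iff.1 hu y hy).symm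
  · exact centralizer_le_normalizer _
  · have h := hc (a : G) (b : G) (by rw [Subgroup.orderOf_coe, ha]) (by rw [Subgroup.orderOf_coe, hb])
    have e : (closure ({a, b} : Set E)).map E.subtype = closure ({(a : G), (b : G)} : Set G) := by
      rw [MonoidHom.map_closure, Set.image_insert_eq, Set.image_singleton]
      rfl
    rw [← e] at h
    exact PLocal.isPSolvable_surjective h
      ((closure ({a, b} : Set E)).equivMapOfInjective E.subtype E.subtype_injective).symm.toMonoidHom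
      (MulEquiv.surjective _)

end Cfsg.Agent.LocalFusionSuz
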