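/-
`PSL₂` in odd characteristic has 2-rank at most two (helper38).
-/
import Cfsg.Agent.Lib.PSL2.Conjugacy
import Cfsg.Agent.Lib.PSL2.Existence
import Cfsg.Prelude.Def_CaseTheorems
import Cfsg.Agent.EqLemmas

set_option autoImplicit false
set_option linter.unusedSectionVars false

namespace Cfsg.Agent.LocalFusionSuz

open Cfsg Subgroup Cfsg.Agent.PSL2

variable {F : Type*} [Field F] [Finite F]

theorem tr_eq_of_mk_eq {g e : SL2 F} (h : (QuotientGroup.mk g : PSL2 F) = QuotientGroup.mk e)
    (he : tr e = 0) : tr g = 0 := by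
  rcases mk_eq_mk_iff.1 h with rfl | rfl
  · exact he
  · rw [tr_neg, he, neg_zero]

/-- Commuting trace zero lifts are equal up to sign. -/
theorem mk_eq_of_commute_trZero (h2 : (2 : F) ≠ 0) {a b : SL2 F} (ha : tr a = 0) (hb : tr b = 0)
    (hab : Commute b a) : (QuotientGroup.mk b : PSL2 F) = QuotientGroup.mk a := by
  have hac : a ∉ Subgroup.center (SL2 F) := fun h =>
    ne_one_of_tr_zero h2 ha (mk_one_iff.2 (mem_center_iff'.1 h))
  obtain ⟨c, d, hcd⟩ := exists_lin_of_commute hac (congrArg Subtype.val hab)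
  have htr : 2 * c = 0 := by
    have h1 : (b.1).trace = 0 := by rw [← tr_eq_trace]; exact hb
    have h3 : (a.1).trace = 0 := by rw [← tr_eq_trace]; exact ha
    rw [hcd, lin, Matrix.trace_add, Matrix.trace_smul, Matrix.trace_smul, Matrix.trace_one, h3] at h1
    simpa [mul_comm] using h1
  have hc : c = 0 := (mul_eq_zero.1 htr).resolve_left h2
  have hd : d ^ 2 = 1 := by
    have h4 := det_lin a c d
    rw [← hcd, hc, ha, b.2] at h4
    linear_combination -h4
  rw [mk_eq_mk_iff]
  rcases sq_eq_one_iff.1 hd with h | h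
  · left
    apply Subtype.ext
    rw [hcd, lin, hc, h, zero_smul, zero_add, one_smul]
  · right
    apply Subtype.ext
    rw [hcd, lin, hc, h, zero_smul, zero_add, neg_one_smul, Matrix.SpecialLinearGroup.coe_neg]

/-- Trace zero lifts of two distinct commuting involutions anticommute. -/
theorem anticomm_of_commute (h2 : (2 : F) ≠ 0) {a b : SL2 F} (ha : tr a = 0) (hb : tr b = 0)
    (hne : (QuotientGroup.mk b : PSL2 F) ≠ QuotientGroup.mk a)
    (hc : Commute (QuotientGroup.mk a : PSL2 F) (QuotientGroup.mk b)) : a * b = -(b * a) := by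
  have h := hc.eq
  rw [← QuotientGroup.mk_mul, ← QuotientGroup.mk_mul, mk_eq_mk_iff] at h
  exact h.resolve_left fun e => hne (mk_eq_of_commute_trZero h2 ha hb e.symm)

/-- The product of two of three distinct pairwise commuting involutions is the third one. -/
theorem mul_eq_of_commute (h2 : (2 : F) ≠ 0) {s t u : PSL2 F} (hs : s * s = 1) (hs1 : s ≠ 1)
    (ht : t * t = 1) (ht1 : t ≠ 1) (hu : u * u = 1) (hu1 : u ≠ 1) (hst : Commute s t)
    (hsu : Commute s u) (htu : Commute t u) (hne : t ≠ s) (hnu : u ≠ s) (hnt : u ≠ t) :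
    u = s * t := by
  obtain ⟨a, rfl, ha⟩ := exists_lift_involution h2 hs1 hs
  obtain ⟨b, rfl, hb⟩ := exists_lift_involution h2 ht1 ht
  obtain ⟨c, rfl, hc⟩ := exists_lift_involution h2 hu1 hu
  have hab1 : (QuotientGroup.mk (a * b) : PSL2 F) ≠ 1 := by
    rw [QuotientGroup.mk_mul]
    intro h
    refine hne (Eq.symm ?_)
    calc (QuotientGroup.mk a : PSL2 F) = (QuotientGroup.mk a * QuotientGroup.mk b) * QuotientGroup.mk b := by
          rw [mul_assoc, ht, mul_one]
      _ = QuotientGroup.mk b := by rw [h, one_mul]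
  have hab2 : (QuotientGroup.mk (a * b) : PSL2 F) * QuotientGroup.mk (a * b) = 1 := by
    rw [QuotientGroup.mk_mul, hst.symm.mul_mul_mul_comm, hs, ht, mul_one]
  obtain ⟨e, he, hetr⟩ := exists_lift_involution h2 hab1 hab2
  have hcomm : Commute c (a * b) := by
    have e1 := anticomm_of_commute h2 ha hc hnu hsu
    have e2 := anticomm_of_commute h2 hb hc hnt htu
    show c * (a * b) = a * b * c
    rw [mul_assoc a b c, e2, mul_neg, ← mul_assoc a c b, e1, neg_mul, neg_neg, mul_assoc]
  rw [← QuotientGroup.mk_mul]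
  exact mk_eq_of_commute_trZero h2 (tr_eq_of_mk_eq he.symm hetr) hc hcomm

/-- `PSL₂(q)`, `q` odd, has 2-rank at most two. -/
theorem pRankLE_psl_odd (h2 : (2 : F) ≠ 0) : Cfsg.PRankLE 2 2 (PSL2 F) := by
  intro A hA hA2
  by_contra hlt
  push Not at hlt
  classical
  have := Fintype.ofFinite A
  rw [Nat.card_eq_fintype_card, ← Finset.card_univ] at hlt
  obtain ⟨s, -, hs⟩ : ∃ s ∈ (Finset.univ : Finset A), s ∉ ({1} : Finset A) :=
    Finset.exists_mem_notMem_of_card_lt_card (by rw [Finset.card_singleton]; omega)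
  obtain ⟨t, -, ht⟩ : ∃ t ∈ (Finset.univ : Finset A), t ∉ ({1, s} : Finset A) :=
    Finset.exists_mem_notMem_of_card_lt_card (lt_of_le_of_lt Finset.card_le_two (by omega))
  obtain ⟨u, -, hu⟩ : ∃ u ∈ (Finset.univ : Finset A), u ∉ ({1, s, t, s * t} : Finset A) :=
    Finset.exists_mem_notMem_of_card_lt_card (lt_of_le_of_lt Finset.card_le_four (by omega))
  simp only [Finset.mem_insert, Finset.mem_singleton, not_or] at hs ht hu
  have hsq : ∀ v : A, (v : PSL2 F) * v = 1 := fun v => by rw [← sq]; exact hA2 v v.2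
  have hcm : ∀ v w : A, Commute (v : PSL2 F) w := fun v w => congrArg Subtype.val (hA.1.1 v w)
  have hne : ∀ v w : A, v ≠ w → (v : PSL2 F) ≠ w := fun v w h e => h (Subtype.ext e)
  refine hu.2.2.2 (Subtype.ext ?_)
  rw [Subgroup.coe_mul]
  exact mul_eq_of_commute h2 (hsq s) (hne s 1 hs) (hsq t) (hne t 1 ht.1) (hsq u) (hne u 1 hu.1)
    (hcm s t) (hcm s u) (hcm t u) (hne t s ht.2) (hne u s hu.2.1) (hne u t hu.2.2.1)

end Cfsg.Agent.LocalFusionSuz
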