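/-
The case `p = 2` (helper38).

The socle `E` has centralisers of involutions with normal 2-complements; 2-rank two is excluded by
the `Z*`-theorem; in 2-rank at least three `E` is a CIT-group with TI Sylow 2-subgroups, hence a Suzuki
group, and no outer element of odd order centralises a Sylow 2-subgroup.
-/
import Cfsg.Agent.Lib.LocalFusionSuz.Basic
import Cfsg.Agent.Lib.LocalFusionSuz.Pair
import Cfsg.Agent.Lib.LocalFusionSuz.Psl
import Cfsg.Agent.Lib.TwoNilCent.RankTwo
import Cfsg.Agent.Lib.TwoNilCent.UFourFinal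
import Cfsg.Agent.Lib.TwoNilCent.Shape
import Cfsg.Agent.Lib.CITClass.TI
import Cfsg.Agent.Lib.ZStar.Unique
import Cfsg.Agent.Lib.ZStar.Glauberman
import Cfsg.Agent.Lib.U3Type.PSLSylow
import Cfsg.Agent.Lib.CISylow.Ident
import Cfsg.Agent.S0516
import Cfsg.Agent.EqLemmas

set_option autoImplicit false
set_option linter.style.haveILetI false
set_option linter.unusedSectionVars false

namespace Cfsg.Agent.LocalFusionSuz

open Cfsg Subgroup
open scoped Pointwise

universe u

/-- In a dihedral group of order at least six two nontrivial central elements are equal. -/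
theorem dihedral_center_unique {n : ℕ} (hn : 3 ≤ n) {a b : DihedralGroup n}
    (ha : a ∈ center (DihedralGroup n)) (hb : b ∈ center (DihedralGroup n))
    (ha1 : a ≠ 1) (hb1 : b ≠ 1) : a = b := by
  haveI : NeZero n := ⟨by omega⟩
  have key : ∀ c : DihedralGroup n, c ∈ center (DihedralGroup n) → c ≠ 1 →
      ∃ i : ZMod n, c = DihedralGroup.r i ∧ 2 * i.val = n := by
    rintro (i | i) hc hc1
    · refine ⟨i, rfl, ?_⟩
      have h := mem_center_iff.1 hc (DihedralGroup.sr 0)
      simp only [DihedralGroup.sr_mul_r, DihedralGroup.r_mul_sr, zero_sub, zero_add,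
        DihedralGroup.sr.injEq] at h
      have h2 : ((2 * i.val : ℕ) : ZMod n) = 0 := by
        rw [Nat.cast_mul, ZMod.natCast_zmod_val]
        linear_combination h
      obtain ⟨k, hk⟩ := (ZMod.natCast_eq_zero_iff (2 * i.val) n).1 h2
      have hlt := ZMod.val_lt i
      have hi0 : i.val ≠ 0 := fun h0 => hc1 (by rw [(ZMod.val_eq_zero i).1 h0]; rfl)
      have hk1 : k = 1 := by
        rcases Nat.lt_or_ge k 2 with hk2 | hk2
        · rcases Nat.eq_zero_or_pos k with rfl | hk0
          · omega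
          · omega
        · have : n * 2 ≤ n * k := Nat.mul_le_mul_left n hk2
          omega
      rw [hk, hk1, mul_one]
    · exfalso
      have h := mem_center_iff.1 hc (DihedralGroup.r 1)
      simp only [DihedralGroup.r_mul_sr, DihedralGroup.sr_mul_r, DihedralGroup.sr.injEq] at h
      have h2 : ((2 : ℕ) : ZMod n) = 0 := by
        push_cast
        linear_combination -h
      have := Nat.le_of_dvd (by norm_num) ((ZMod.natCast_eq_zero_iff 2 n).1 h2)
      omega
  obtain ⟨i, rfl, hi⟩ := key a ha ha1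
  obtain ⟨j, rfl, hj⟩ := key b hb hb1
  rw [ZMod.val_injective n (show i.val = j.val by omega)]

variable {G : Type u} [Group G] [Finite G] {P : Sylow 2 G} [Fact (Nat.Prime 2)]

/-- The data of the socle. -/
structure Socle (P : Sylow 2 G) (E : Subgroup G) (Q : Sylow 2 E) : Prop where
  normal : E.Normal
  simple : IsSimpleGroup E
  noncomm : ¬ IsMulCommutative E
  cent : centralizer (E : Set G) = ⊥
  eq : (Q : Subgroup E).map E.subtype = (P : Subgroup G) ⊓ E

theorem Socle.mem_iff {E : Subgroup G} {Q : Sylow 2 E} (hE : Socle P E Q) {u : E} :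
    u ∈ (Q : Subgroup E) ↔ (u : G) ∈ (P : Subgroup G) := by
  constructor
  · intro h
    have h1 := mem_map_of_mem E.subtype h
    rw [hE.eq] at h1
    exact h1.1
  · intro h
    obtain ⟨v, hv, hvu⟩ : (u : G) ∈ (Q : Subgroup E).map E.subtype := by
      rw [hE.eq]; exact ⟨h, u.2⟩
    rwa [← E.subtype_injective hvu]

/-- The socle is a `TwoNil` group. -/
theorem Hyp.twoNil (hH : Hyp P) (E : Subgroup G) : TwoNilCent.TwoNil E := by
  intro t ht
  refine Transfer.hasNormalPComplement_of_injective (hH.complement (y := (t : G))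
    ⟨1, by rw [pow_one, Subgroup.orderOf_coe, ht]⟩ fun h => Involution.ne_one ht (Subtype.ext h))
    (MonoidHom.codRestrict (E.subtype.comp (centralizer ({t} : Set E)).subtype) _ fun w =>
      mem_centralizer_singleton_iff.2 (congrArg Subtype.val (mem_centralizer_singleton_iff.1 w.2)))
    fun a b h => ?_
  exact Subtype.ext (Subtype.ext (congrArg (fun z : ↥(centralizer ({(t : G)} : Set G)) => (z : G)) h))

/-- A conjugate in `E` of an involution of `P ⊓ E` central in `P` is central in `P`. -/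
theorem Hyp.central_conj_socle (hH : Hyp P) {E : Subgroup G} {Q : Sylow 2 E} (hE : Socle P E Q)
    {x g : E} (hxQ : x ∈ (Q : Subgroup E)) (hxC : (x : G) ∈ centralizer ((P : Subgroup G) : Set G))
    (hg : g * x * g⁻¹ ∈ (Q : Subgroup E)) :
    ((g * x * g⁻¹ : E) : G) ∈ centralizer ((P : Subgroup G) : Set G) := by
  have h1 : (g : G) * (x : G) * (g : G)⁻¹ ∈ (P : Subgroup G) := hE.mem_iff.1 hg
  exact hH.central_of_conj (hE.mem_iff.1 hxQ) hxC h1

/-- An involution central in `P` has another conjugate in `P ⊓ E` under `E`. -/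
theorem exists_conj_ne {E : Subgroup G} {Q : Sylow 2 E} (hE : Socle P E Q) {x : E}
    (hx : orderOf x = 2) (hxQ : x ∈ (Q : Subgroup E)) :
    ∃ g : E, g * x * g⁻¹ ∈ (Q : Subgroup E) ∧ g * x * g⁻¹ ≠ x := by
  by_contra hno
  push Not at hno
  haveI := hE.simple
  have hiso := ZStar.isolated_of_sylow Q hx hxQ hno
  have hcore : pPrimeCore 2 E = ⊥ := by
    refine (Cores.pPrimeCore_normal 2 E).eq_bot_or_eq_top.resolve_right fun h => ?_
    have h1 : ¬ 2 ∣ Nat.card (Cfsg.pPrimeCore 2 E) := Cores.not_dvd_card_pPrimeCore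
    rw [h, card_top] at h1
    exact h1 (hx ▸ orderOf_dvd_natCard x)
  have hcen : x ∈ center E := mem_center_iff.2 fun g => by
    have h := ZStar.zStar_of_brauerSuzuki ZStar.uniqueInvolution hiso g
    rw [hcore, mem_bot] at h
    exact (mul_inv_eq_iff_eq_mul.1 (mul_inv_eq_one.1 h)).symm
  rcases (inferInstance : (center E).Normal).eq_bot_or_eq_top with h | h
  · rw [h, mem_bot] at hcen
    exact Involution.ne_one hx hcen
  · exact hE.noncomm ⟨⟨fun a b => (mem_center_iff.1 (h ▸ mem_top a : a ∈ center E) b).symm⟩⟩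

/-- An involution of the socle central in `P`. -/
theorem Hyp.exists_central_socle (hH : Hyp P) {E : Subgroup G} {Q : Sylow 2 E} (hE : Socle P E Q)
    (h2 : 2 ∣ Nat.card E) :
    ∃ x : E, x ∈ (Q : Subgroup E) ∧ orderOf x = 2 ∧
      (x : G) ∈ centralizer ((P : Subgroup G) : Set G) := by
  haveI := hE.normal
  set R := (P : Subgroup G) ⊓ E with hR
  have hne : R.subgroupOf (P : Subgroup G) ≠ ⊥ := by
    rw [Ne, subgroupOf_eq_bot, disjoint_iff, inf_eq_left.2 (inf_le_left : R ≤ _), ← hE.eq,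
      map_eq_bot_iff_of_injective _ E.subtype_injective]
    exact Q.ne_bot_of_dvd_card h2
  haveI : (R.subgroupOf (P : Subgroup G)).Normal := ⟨fun v hv w => by
    rw [mem_subgroupOf] at hv ⊢
    exact ⟨(w * v * w⁻¹).2, hE.normal.conj_mem _ hv.2 w⟩⟩
  obtain ⟨z, hz, hz1⟩ := (bot_or_exists_ne_one _).resolve_left (PGroup.inf_center_ne_bot P.2 hne)
  rw [mem_inf, mem_subgroupOf] at hz
  obtain ⟨m, hm⟩ := exists_pow_orderOf (orderOf_pow_of_mem P z.2) fun h => hz1 (Subtype.ext h)
  have hzC : (z : G) ∈ centralizer ((P : Subgroup G) : Set G) :=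
    mem_centralizer_iff.2 fun u hu => congrArg Subtype.val (mem_center_iff.1 hz.2 ⟨u, hu⟩)
  refine ⟨⟨(z : G) ^ m, pow_mem hz.1.2 m⟩, hE.mem_iff.2 (pow_mem z.2 m), ?_, pow_mem hzC m⟩
  rw [Subgroup.orderOf_mk, hm]

/-- 2-rank two is impossible. -/
theorem Hyp.false_of_rankTwo (hH : Hyp P) {E : Subgroup G} {Q : Sylow 2 E} (hE : Socle P E Q)
    (h2E : 2 ∣ Nat.card E) (hr : Cfsg.PRankLE 2 2 E)
    (hd : ¬ (Cfsg.IsElementaryAbelian 2 (P : Subgroup G) ∧
      ∀ x ∈ (P : Subgroup G), ∀ y ∈ (P : Subgroup G), x ≠ 1 → y ≠ 1 → ∃ g : G, g * x * g⁻¹ = y)) :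
    False := by
  classical
  haveI := hE.simple
  haveI := hE.normal
  have hT := hH.twoNil E
  haveI : Fintype (GaloisField 2 4) := Fintype.ofFinite _
  have hK : Fintype.card (GaloisField 2 4) = 16 := by
    rw [← Nat.card_eq_fintype_card, GaloisField.card 2 4 (by norm_num)]
    norm_num
  obtain ⟨S⟩ : Nonempty (Sylow 2 (Cfsg.PSU 3 (GaloisField 2 4) 4)) := inferInstance
  rcases S0516.result hE.noncomm hr Q hK S with ⟨n, hn, ⟨e⟩⟩ | hq | hw | hP
  swap
  · exact TwoNilCent.not_quasiDihedral hE.noncomm hT Q hq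
  swap
  · exact TwoNilCent.not_wreathed hE.noncomm hT Q hw
  swap
  · obtain ⟨e⟩ := hP
    exact TwoNilCent.false_of_shape hE.noncomm hT Q ((TwoNilCent.shape_psu hK S).congr e.symm)
  obtain ⟨x, hxQ, hx, hxC⟩ := hH.exists_central_socle hE h2E
  obtain ⟨g, hg, hgne⟩ := exists_conj_ne hE hx hxQ
  set y := g * x * g⁻¹ with hy
  have hyC := hH.central_conj_socle hE hxQ hxC hg
  have hcen : ∀ v : E, ∀ hv : v ∈ (Q : Subgroup E), (v : G) ∈ centralizer ((P : Subgroup G) : Set G) →
      e ⟨v, hv⟩ ∈ center (DihedralGroup n) := by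
    intro v hv hvC
    refine mem_center_iff.2 fun d => e.symm.injective (Subtype.ext (Subtype.ext ?_))
    rw [map_mul, map_mul, e.symm_apply_apply]
    exact mem_centralizer_iff.1 hvC _ (hE.mem_iff.1 (e.symm d).2)
  rcases lt_or_eq_of_le hn with hn3 | rfl
  · refine hgne (congrArg Subtype.val (e.injective (dihedral_center_unique hn3 (hcen y hg hyC)
      (hcen x hxQ hxC) ?_ ?_)))
    · intro h
      have := congrArg Subtype.val ((map_eq_one_iff e e.injective).1 h)
      exact Involution.ne_one hx (conj_eq_one_iff.1 this)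
    · intro h
      exact Involution.ne_one hx (congrArg Subtype.val ((map_eq_one_iff e e.injective).1 h))
  -- the four group
  have hcard : Nat.card (Q : Subgroup E) = 4 := by
    rw [Nat.card_congr e.toEquiv, DihedralGroup.nat_card]
  have hy2 : orderOf y = 2 := by rw [hy, Involution.orderOf_conj, hx]
  have hxy : x * y = y * x := by
    apply Subtype.ext
    exact (mem_centralizer_iff.1 hyC (x : G) (hE.mem_iff.1 hxQ))
  have hxy1 : x * y ≠ 1 := fun h => hgne (by
    rw [eq_inv_of_mul_eq_one_right h, Involution.inv_eq hx])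
  have hcover : ∀ v ∈ (Q : Subgroup E), v = 1 ∨ v = x ∨ v = y ∨ v = x * y := by
    intro v hv
    have := Fintype.ofFinite (Q : Subgroup E)
    by_contra hno
    push Not at hno
    have h5 := Finset.card_le_univ ({⟨v, hv⟩, 1, ⟨x, hxQ⟩, ⟨y, hg⟩, ⟨x * y, mul_mem hxQ hg⟩} :
      Finset (Q : Subgroup E))
    rw [← Nat.card_eq_fintype_card, hcard] at h5
    rw [Finset.card_insert_of_notMem, Finset.card_insert_of_notMem, Finset.card_insert_of_notMem,
      Finset.card_insert_of_notMem, Finset.card_singleton] at h5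
    · omega
    · simp only [Finset.mem_singleton, Subtype.mk.injEq]
      intro h
      exact Involution.ne_one hx (mul_eq_right.1 h.symm)
    · simp only [Finset.mem_insert, Finset.mem_singleton, Subtype.mk.injEq, not_or]
      exact ⟨fun h => hgne h.symm, fun h => Involution.ne_one hy2 (left_eq_mul.1 h)⟩
    · simp only [Finset.mem_insert, Finset.mem_singleton, Subtype.ext_iff, OneMemClass.coe_one, not_or]
      exact ⟨fun h => Involution.ne_one hx (Subtype.ext h.symm),
        fun h => Involution.ne_one hy2 (Subtype.ext h.symm), fun h => hxy1 (Subtype.ext h.symm)⟩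
    · simp only [Finset.mem_insert, Finset.mem_singleton, Subtype.mk.injEq, Subgroup.mk_eq_one, not_or]
      exact hno
  have hsq : ∀ v ∈ (Q : Subgroup E), v * v = 1 := by
    intro v hv
    rcases hcover v hv with rfl | rfl | rfl | rfl
    · exact one_mul 1
    · exact Involution.mul_self hx
    · exact Involution.mul_self hy2
    · rw [(show Commute y x from hxy.symm).mul_mul_mul_comm, Involution.mul_self hx,
        Involution.mul_self hy2, one_mul]
  have hQC : (P : Subgroup G) ⊓ E ≤ centralizer ((P : Subgroup G) : Set G) := by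
    rw [← hE.eq]
    rintro _ ⟨v, hv, rfl⟩
    rcases hcover v hv with rfl | rfl | rfl | rfl
    · exact one_mem _
    · exact hxC
    · exact hyC
    · exact mul_mem hxC hyC
  have hE1 : E ≠ ⊥ := fun h => hE.noncomm (h ▸ inferInstance)
  have hPE := hH.le_of_inf_le_centralizer hE.normal hE1 hQC
  refine hd ⟨⟨⟨⟨fun a b => Subtype.ext (mem_centralizer_iff.1 (hQC ⟨b.2, hPE b.2⟩) a a.2)⟩⟩,
    fun a ha => ?_⟩, ?_⟩
  · rw [sq]
    exact congrArg Subtype.val (hsq ⟨a, hPE ha⟩ (hE.mem_iff.2 ha))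
  · -- one class
    have hinv : ∀ v ∈ (Q : Subgroup E), v ≠ 1 → orderOf v = 2 := fun v hv hv1 =>
      Involution.orderOf_of_sq (hsq v hv) hv1
    have hxxy : IsConj x (x * y) := by
      obtain ⟨h, hh, hhne⟩ := exists_conj_ne hE (hinv _ (mul_mem hxQ hg) hxy1) (mul_mem hxQ hg)
      have hconj : IsConj (x * y) (h * (x * y) * h⁻¹) := isConj_iff.2 ⟨h, rfl⟩
      rcases hcover _ hh with h0 | h0 | h0 | h0
      · exact absurd (conj_eq_one_iff.1 h0) hxy1
      · exact (h0 ▸ hconj).symm
      · exact (isConj_iff.2 ⟨g, rfl⟩ : IsConj x y).trans (h0 ▸ hconj).symm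
      · exact absurd h0 hhne
    have hall : ∀ v ∈ (Q : Subgroup E), v ≠ 1 → IsConj x v := by
      intro v hv hv1
      rcases hcover v hv with rfl | rfl | rfl | rfl
      · exact absurd rfl hv1
      · exact IsConj.refl _
      · exact isConj_iff.2 ⟨g, rfl⟩
      · exact hxxy
    intro a ha b hb ha1 hb1
    obtain ⟨c, hc⟩ := isConj_iff.1 ((hall ⟨a, hPE ha⟩ (hE.mem_iff.2 ha)
      fun h => ha1 (congrArg Subtype.val h)).symm.trans
      (hall ⟨b, hPE hb⟩ (hE.mem_iff.2 hb) fun h => hb1 (congrArg Subtype.val h)))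
    exact ⟨c, congrArg Subtype.val hc⟩

/-- A PSL list group with these involutions has elementary abelian Sylow 2-subgroups. -/
theorem sq_eq_one_of_pslList {E : Type u} [Group E] [Finite E] [IsSimpleGroup E]
    (hr : ¬ Cfsg.PRankLE 2 2 E) (h : CIT.PSLList E) (Q : Sylow 2 E) :
    ∀ v ∈ (Q : Subgroup E), v * v = 1 := by
  obtain ⟨F, iF, iF', -, ⟨e⟩⟩ := h
  rcases Nat.even_or_odd (Fintype.card F) with he | ho
  · obtain ⟨p, _, ⟨m, hm⟩, hp, hpm⟩ := FiniteField.card' F
    change Fintype.card F = p ^ m at hpm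
    have hp2 : p = 2 := ((Nat.prime_dvd_prime_iff_eq Nat.prime_two hp).1
      (Nat.prime_two.dvd_of_dvd_pow (hpm ▸ even_iff_two_dvd.1 he))).symm
    subst hp2
    rcases Nat.lt_or_ge m 2 with h1 | h2
    · intro v hv
      have hc : Nat.card (Q : Subgroup E) = 2 := by
        rw [CISylow.card_sylow_psl_two hm hpm e Q, show m = 1 by omega, pow_one]
      have := pow_card_eq_one' (G := (Q : Subgroup E)) (x := ⟨v, hv⟩)
      rw [hc, sq] at this
      exact congrArg Subtype.val this
    · exact U3Type.sylow_sq_psl (Or.inr ⟨m, h2, hpm⟩) e Q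
  · refine absurd (fun A hA hA2 => ?_) hr
    have h2 : (2 : F) ≠ 0 := by
      refine PSL2.two_ne_zero_of_dvd ?_
      rw [Nat.card_eq_fintype_card]
      obtain ⟨k, hk⟩ := ho
      exact ⟨k, by omega⟩
    haveI := hA
    haveI := Subgroup.map_isMulCommutative A e.toMonoidHom
    have := pRankLE_psl_odd h2 (A.map e.toMonoidHom) inferInstance (by
      rintro _ ⟨a, ha, rfl⟩
      rw [← map_pow, hA2 a ha, map_one])
    rwa [card_map_of_injective e.injective] at this

/-- 2-rank at least three: the socle contains `P` and is a Suzuki group with one class of involutions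
and Sylow 2-subgroup containing the centralisers of its elements. -/
theorem Hyp.suzuki_of_rank (hH : Hyp P) {E : Subgroup G} {Q : Sylow 2 E} (hE : Socle P E Q)
    (h2E : 2 ∣ Nat.card E) (hr : ¬ Cfsg.PRankLE 2 2 E)
    (hd : ¬ (Cfsg.IsElementaryAbelian 2 (P : Subgroup G) ∧
      ∀ x ∈ (P : Subgroup G), ∀ y ∈ (P : Subgroup G), x ≠ 1 → y ≠ 1 → ∃ g : G, g * x * g⁻¹ = y)) :
    (P : Subgroup G) ≤ E ∧ Lie.IsoSuzuki E ∧ ∃ T : CN.EvenTI E, T.H = (Q : Subgroup E) := by
  classical
  haveI := hE.simple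
  haveI := hE.normal
  have hT := hH.twoNil E
  have hCIT : CIT.IsCIT E := fun t ht => hT.isPGroup_centralizer_of_rank hE.noncomm hr ht
  have hnc : ∃ a b : E, a * b ≠ b * a := by
    by_contra h
    exact hE.noncomm ⟨⟨fun a b => by by_contra e; exact h ⟨a, b, e⟩⟩⟩
  obtain ⟨x, hxQ, hx, hxC⟩ := hH.exists_central_socle hE h2E
  have hxct : CentType 2 (x : G) :=
    hH.centType_of_central (hE.mem_iff.1 hxQ) hxC (by rw [Subgroup.orderOf_coe, hx])
  -- every Sylow subgroup of `E` is the centraliser of a conjugate of `x`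
  have hcentre : ∀ U : Sylow 2 E, ∀ c : E, c * x * c⁻¹ ∈ (U : Subgroup E) →
      centralizer ({c * x * c⁻¹} : Set E) = (U : Subgroup E) := by
    intro U c hc
    have hle : (U : Subgroup E) ≤ centralizer ({c * x * c⁻¹} : Set E) := by
      intro u hu
      obtain ⟨R, hR⟩ := (U.2.map E.subtype).exists_le_sylow
      have h1 := (hxct.conj (c : G)).2 R (hR (mem_map_of_mem E.subtype hc))
      exact mem_centralizer_singleton_iff.2
        (Subtype.ext (mem_centralizer_iff.1 h1 (u : G) (hR (mem_map_of_mem E.subtype hu))))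
    exact U.3 (hCIT _ (by rw [Involution.orderOf_conj, hx])) hle
  have hTI : CIT.TIMod E := by
    intro S T hne
    rw [CIT.pCore_eq_bot hnc]
    by_contra hbot
    obtain ⟨v, hv, hv1⟩ := (bot_or_exists_ne_one _).resolve_left hbot
    obtain ⟨m, hm⟩ := exists_pow_orderOf (orderOf_pow_of_mem S hv.1) hv1
    set i := v ^ m with hi
    obtain ⟨U, hU⟩ := (hCIT i hm).exists_le_sylow
    have hall : ∀ R : Sylow 2 E, i ∈ (R : Subgroup E) → (R : Subgroup E) = U := by
      intro R hiR
      obtain ⟨c, hc⟩ := MulAction.exists_smul_eq E Q R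
      have hcR : c * x * c⁻¹ ∈ (R : Subgroup E) := by
        rw [← hc, mem_smul_sylow]
        simpa [mul_assoc] using hxQ
      have hR := hcentre R c hcR
      have hiC : c * x * c⁻¹ ∈ (U : Subgroup E) := by
        refine hU (mem_centralizer_singleton_iff.2 ?_)
        exact (mem_centralizer_singleton_iff.1 (hR.symm ▸ hiR)).symm
      rw [← hR, hcentre U c hiC]
    exact hne (Sylow.ext ((hall S (pow_mem hv.1 m)).trans (hall T (pow_mem hv.2 m)).symm) ▸ rfl)
  obtain ⟨T, hTH⟩ := CIT.exists_evenTI hCIT hTI (CIT.pCore_eq_bot hnc) Q h2E (fun M hM hodd => by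
    refine hM.eq_bot_or_eq_top.resolve_right fun h => ?_
    rw [h, Subgroup.card_top] at hodd
    exact Nat.not_even_iff_odd.2 hodd (even_iff_two_dvd.2 h2E))
  -- all involutions of `Q` are central in `P`
  have hinvC : ∀ v ∈ (Q : Subgroup E), v * v = 1 → (v : G) ∈ centralizer ((P : Subgroup G) : Set G) := by
    intro v hv hv2
    by_cases hv1 : v = 1
    · subst hv1; exact one_mem _
    obtain ⟨c, hc⟩ := isConj_iff.1
      (Involution.isConj_involutions T.se hx (Involution.orderOf_of_sq hv2 hv1))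
    exact hc ▸ hH.central_conj_socle hE hxQ hxC (hc.symm ▸ hv)
  obtain ⟨g, hg, hgne⟩ := exists_conj_ne hE hx hxQ
  have hgN : g ∈ normalizer ((Q : Subgroup E) : Set E) := by
    rw [← hTH]
    exact T.ti g x (hTH.symm ▸ hxQ) (Involution.ne_one hx) (hTH.symm ▸ hg)
  obtain ⟨a, e, hdec, hza, hze, ⟨j, hj⟩, hcop⟩ := Transfer.exists_pPart_mul (p := 2) g
  have haN : a ∈ normalizer ((Q : Subgroup E) : Set E) := (zpowers_le.2 hgN) hza
  have heN : e ∈ normalizer ((Q : Subgroup E) : Set E) := (zpowers_le.2 hgN) hze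
  have haQ : a ∈ (Q : Subgroup E) := by
    have hp1 : IsPGroup 2 ↥(zpowers a) := IsPGroup.of_card (n := j) (by rw [Nat.card_zpowers, hj])
    have hp2 := IsPGroup.to_sup_of_normal_right' hp1 Q.2 (zpowers_le.2 haN)
    exact (Q.3 hp2 le_sup_right) ▸ mem_sup_left (mem_zpowers a)
  have hax : a * x = x * a := Subtype.ext (mem_centralizer_iff.1 hxC (a : G) (hE.mem_iff.1 haQ))
  have hex : e * x * e⁻¹ ≠ x := by
    intro he
    refine hgne ?_
    calc g * x * g⁻¹ = a * (e * x * e⁻¹) * a⁻¹ := by rw [hdec]; group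
      _ = x := by rw [he, hax, mul_inv_cancel_right]
  -- the subgroup generated by the involutions
  set W : Set G := {w | w ∈ (P : Subgroup G) ∧ w ∈ E ∧ w * w = 1} with hW
  have hWC : W ⊆ centralizer ((P : Subgroup G) : Set G) := fun w hw =>
    hinvC ⟨w, hw.2.1⟩ (hE.mem_iff.2 hw.1) (Subtype.ext hw.2.2)
  have heconj : ∀ f : E, f ∈ normalizer ((Q : Subgroup E) : Set E) → ∀ w ∈ W,
      (f : G) * w * (f : G)⁻¹ ∈ W := by
    intro f hf w hw
    have h1 : f * ⟨w, hw.2.1⟩ * f⁻¹ ∈ (Q : Subgroup E) :=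
      (mem_normalizer_iff.1 hf _).1 (hE.mem_iff.2 hw.1)
    refine ⟨hE.mem_iff.1 h1, (f * ⟨w, hw.2.1⟩ * f⁻¹).2, ?_⟩
    calc (f : G) * w * (f : G)⁻¹ * ((f : G) * w * (f : G)⁻¹) = (f : G) * (w * w) * (f : G)⁻¹ := by group
      _ = 1 := by rw [hw.2.2]; group
  have hPE : (P : Subgroup G) ≤ E := by
    refine hH.le_of_moved hE.normal (V := closure W) (e := (e : G)) ((closure_le _).2 fun w hw => hw.1)
      ((closure_le _).2 hWC) e.2 ?_ ?_ ?_
    · have hmap : ∀ f : E, f ∈ normalizer ((Q : Subgroup E) : Set E) →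
          ∀ v ∈ closure W, (f : G) * v * (f : G)⁻¹ ∈ closure W := by
        intro f hf v hv
        have hle : (closure W).map (MulAut.conj (f : G)).toMonoidHom ≤ closure W := by
          rw [MonoidHom.map_closure, closure_le]
          rintro _ ⟨w, hw, rfl⟩
          exact subset_closure (heconj f hf w hw)
        exact hle (mem_map_of_mem _ hv)
      refine mem_normalizer_iff.2 fun v => ⟨hmap e heN v, fun h => ?_⟩
      have := hmap e⁻¹ (inv_mem heN) _ h
      simpa [mul_assoc] using this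
    · rw [Subgroup.orderOf_coe]
      exact Nat.prime_two.coprime_iff_not_dvd.1 hcop.symm
    · intro h
      refine hex (Subtype.ext ?_)
      have := mem_centralizer_iff.1 h (x : G) (subset_closure
        ⟨hE.mem_iff.1 hxQ, x.2, congrArg Subtype.val (Involution.mul_self hx)⟩)
      show (e : G) * x * (e : G)⁻¹ = x
      rw [← this, mul_inv_cancel_right]
  refine ⟨hPE, ?_, T, hTH⟩
  rcases CITClass.classify_ti hnc hCIT hTI with h | h
  swap
  · exact h
  exfalso
  have hsq := sq_eq_one_of_pslList hr h Q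
  have hallC : ∀ w ∈ (P : Subgroup G), w ∈ centralizer ((P : Subgroup G) : Set G) ∧ w * w = 1 :=
    fun w hw => ⟨hinvC ⟨w, hPE hw⟩ (hE.mem_iff.2 hw) (hsq _ (hE.mem_iff.2 hw)),
      congrArg Subtype.val (hsq ⟨w, hPE hw⟩ (hE.mem_iff.2 hw))⟩
  refine hd ⟨⟨⟨⟨fun a b => Subtype.ext (mem_centralizer_iff.1 (hallC b b.2).1 a a.2)⟩⟩,
    fun w hw => by rw [sq]; exact (hallC w hw).2⟩, fun v hv w hw hv1 hw1 => ?_⟩
  obtain ⟨c, hc⟩ := isConj_iff.1 (Involution.isConj_involutions T.se
    (Involution.orderOf_of_sq (hsq ⟨v, hPE hv⟩ (hE.mem_iff.2 hv)) fun h => hv1 (congrArg Subtype.val h))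
    (Involution.orderOf_of_sq (hsq ⟨w, hPE hw⟩ (hE.mem_iff.2 hw)) fun h => hw1 (congrArg Subtype.val h)))
  exact ⟨c, congrArg Subtype.val hc⟩

/-- The socle is the whole group. -/
theorem Hyp.socle_eq_top (hH : Hyp P) {E : Subgroup G} {Q : Sylow 2 E} (hE : Socle P E Q)
    (h2E : 2 ∣ Nat.card E) (hPE : (P : Subgroup G) ≤ E) (T : CN.EvenTI E)
    (hTH : T.H = (Q : Subgroup E)) : E = ⊤ := by
  classical
  haveI := hE.normal
  obtain ⟨x, hxQ, hx, hxC⟩ := hH.exists_central_socle hE h2E
  refine eq_top_iff.2 fun g _ => ?_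
  -- reduce to the centraliser of `x`
  obtain ⟨c, hc⟩ := isConj_iff.1 (Involution.isConj_involutions T.se hx
    (t := ⟨g * (x : G) * g⁻¹, hE.normal.conj_mem _ x.2 g⟩)
    (by rw [Subgroup.orderOf_mk, Involution.orderOf_conj, Subgroup.orderOf_coe, hx]))
  have hc' : (c : G) * x * (c : G)⁻¹ = g * x * g⁻¹ := congrArg Subtype.val hc
  set w := (c : G)⁻¹ * g with hw
  have hwx : w * x = x * w := by
    refine mul_inv_eq_iff_eq_mul.1 ?_
    calc w * x * w⁻¹ = (c : G)⁻¹ * (g * x * g⁻¹) * c := by rw [hw]; group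
      _ = x := by rw [← hc']; group
  suffices hwE : w ∈ E by
    have := mul_mem c.2 hwE
    rwa [hw, mul_inv_cancel_left] at this
  obtain ⟨a, b, hdec, hza, hzb, ⟨j, hj⟩, hcop⟩ := Transfer.exists_pPart_mul (p := 2) w
  have haE : a ∈ E := by
    obtain ⟨d, hd⟩ := exists_conj_mem P (y := a) ⟨j, hj⟩
    simpa [mul_assoc] using hE.normal.conj_mem _ (hPE hd) d⁻¹
  rw [hdec]
  refine mul_mem haE ?_
  have hodd : ¬ 2 ∣ orderOf b := Nat.prime_two.coprime_iff_not_dvd.1 hcop.symm
  have hwC : w ∈ centralizer ({(x : G)} : Set G) := mem_centralizer_singleton_iff.2 hwx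
  have hbx : b ∈ centralizer ({(x : G)} : Set G) := (zpowers_le.2 hwC) hzb
  -- `P` is the centraliser of `x` in `E`
  have hCx : ∀ v : E, (v : G) ∈ (P : Subgroup G) ↔ v * x = x * v := by
    intro v
    constructor
    · intro hv
      exact Subtype.ext (mem_centralizer_iff.1 hxC (v : G) hv)
    · intro hv
      refine hE.mem_iff.1 ?_
      rw [← hTH]
      exact T.mem_of_commute (hTH.symm ▸ hxQ) (Involution.ne_one hx) hv
  have hconjP : ∀ f ∈ centralizer ({(x : G)} : Set G), ∀ u ∈ (P : Subgroup G),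
      f * u * f⁻¹ ∈ (P : Subgroup G) := fun f hf u hu => by
    refine (hCx ⟨f * u * f⁻¹, hE.normal.conj_mem _ (hPE hu) f⟩).2 (Subtype.ext ?_)
    have e1 := mem_centralizer_singleton_iff.1 hf
    have e2 := mem_centralizer_singleton_iff.1 (inv_mem hf)
    have e3 : u * x = x * u := mem_centralizer_iff.1 hxC u hu
    show f * u * f⁻¹ * x = x * (f * u * f⁻¹)
    rw [mul_assoc _ f⁻¹, e2, ← mul_assoc, mul_assoc f u, e3, ← mul_assoc f, e1]
    group
  have hbN : b ∈ normalizer ((P : Subgroup G) : Set G) := mem_normalizer_iff.2 fun u =>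
    ⟨hconjP b hbx u, fun h => by
      simpa [mul_assoc] using hconjP b⁻¹ (inv_mem hbx) _ h⟩
  have hbC : b ∈ centralizer ((P : Subgroup G) : Set G) :=
    hH.semiregular hbN hodd (hE.mem_iff.1 hxQ)
      (fun h => Involution.ne_one hx (Subtype.ext h)) (mem_centralizer_singleton_iff.1 hbx)
  -- `b` acts trivially on the points
  let φ : MulAut E := MulAut.conjNormal b
  have hφQ : ∀ u ∈ T.H, φ u = u := by
    intro u hu
    rw [hTH] at hu
    refine Subtype.ext ?_
    rw [MulAut.conjNormal_apply, ← mem_centralizer_iff.1 hbC (u : G) (hE.mem_iff.1 hu),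
      mul_inv_cancel_right]
  have hφN : ∀ v : E, φ v ∈ T.N ↔ v ∈ T.N := by
    intro v
    simp only [mem_normalizer_iff]
    have hQinv : ∀ u : E, φ u ∈ T.H ↔ u ∈ T.H := fun u => by
      constructor
      · intro h
        have h2 := hφQ _ h
        rwa [φ.injective h2] at h
      · intro h; rwa [hφQ u h]
    constructor
    · intro h u
      have := h (φ u)
      rwa [← map_inv, ← map_mul, ← map_mul, hQinv, hQinv] at this
    · intro h u
      obtain ⟨u, rfl⟩ := φ.surjective u
      rw [← map_inv, ← map_mul, ← map_mul, hQinv, hQinv]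
      exact h u
  let σ : E ⧸ T.N → E ⧸ T.N := Quotient.lift (fun v : E => ((φ v : E) : E ⧸ T.N)) fun v v' h =>
    QuotientGroup.eq.2 (by
      rw [← map_inv, ← map_mul, hφN]
      exact QuotientGroup.leftRel_apply.1 h)
  have hσmk : ∀ v : E, σ (v : E ⧸ T.N) = ((φ v : E) : E ⧸ T.N) := fun v => rfl
  have hσsmul : ∀ (v : E) (c : E ⧸ T.N), σ (v • c) = φ v • σ c := by
    intro v c
    induction c using QuotientGroup.induction_on with
    | _ z => rw [MulAction.Quotient.smul_coe, hσmk, hσmk, MulAction.Quotient.smul_coe, smul_eq_mul,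
        smul_eq_mul, map_mul]
  have hfixall : ∀ c : E ⧸ T.N, σ c = c := by
    obtain ⟨c₀, hc₀⟩ := T.exists_ne_pt
    have hσpt : σ T.pt = T.pt := by rw [hσmk, map_one]
    have hσc : σ c₀ ≠ T.pt := by
      intro h
      refine hc₀ ?_
      obtain ⟨v, rfl⟩ := T.exists_smul_pt c₀
      rw [hσsmul, hσpt, T.stab_pt, hφN] at h
      exact T.stab_pt.2 h
    obtain ⟨q, hq, hqc⟩ := T.card_Ω.2 c₀ (σ c₀) hc₀ hσc
    have hiter : ∀ k : ℕ, σ^[k] c₀ = q ^ k • c₀ := by
      intro k
      induction k with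
      | zero => simp
      | succ k ih =>
        rw [Function.iterate_succ_apply', ih, hσsmul, hφQ _ (pow_mem hq k), ← hqc, ← mul_smul,
          ← pow_succ]
    have hφpow : ∀ (k : ℕ) (v : E), φ^[k] v = (φ ^ k) v := by
      intro k
      induction k with
      | zero => intro v; rfl
      | succ k ih => intro v; rw [Function.iterate_succ_apply', ih, pow_succ', MulAut.mul_apply]
    have hσiter : ∀ (k : ℕ) (v : E), σ^[k] (v : E ⧸ T.N) = ((φ^[k] v : E) : E ⧸ T.N) := by
      intro k
      induction k with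
      | zero => intro v; rfl
      | succ k ih => intro v; rw [Function.iterate_succ_apply', ih, hσmk, Function.iterate_succ_apply']
    have hb1 : φ ^ orderOf b = 1 := by rw [← map_pow, pow_orderOf_eq_one, map_one]
    have hq1 : q = 1 := by
      have h1 : q ^ orderOf b • c₀ = c₀ := by
        rw [← hiter]
        induction c₀ using QuotientGroup.induction_on with
        | _ z => rw [hσiter, hφpow, hb1, MulAut.one_apply]
      by_contra hne
      refine hc₀ (T.semiregular (pow_mem hq _) (fun h => hne ?_) h1)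
      rw [hTH] at hq
      obtain ⟨i, hi⟩ := orderOf_pow_of_mem Q hq
      refine orderOf_eq_one_iff.1 (Nat.Coprime.eq_one_of_dvd ?_ (orderOf_dvd_of_pow_eq_one h))
      rw [hi]
      exact (Nat.prime_two.coprime_iff_not_dvd.2 hodd).pow_left i
    rw [hq1, one_smul] at hqc
    intro c
    by_cases hcpt : c = T.pt
    · rw [hcpt, hσpt]
    obtain ⟨u, hu, huc⟩ := T.card_Ω.2 c₀ c hc₀ hcpt
    rw [← huc, hσsmul, hφQ u hu, ← hqc]
  haveI := T.faithful
  have hbE : b ∈ centralizer (E : Set G) := by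
    refine mem_centralizer_iff.2 fun v hv => ?_
    have h : φ ⟨v, hv⟩ = ⟨v, hv⟩ := FaithfulSMul.eq_of_smul_eq_smul fun c : E ⧸ T.N => by
      have := hσsmul ⟨v, hv⟩ c
      rw [hfixall, hfixall] at this
      exact this.symm
    have h2 : b * v * b⁻¹ = v := by
      have := congrArg Subtype.val h
      rwa [MulAut.conjNormal_apply] at this
    exact (mul_inv_eq_iff_eq_mul.1 h2).symm
  rw [hE.cent, mem_bot] at hbE
  rw [hbE]
  exact one_mem E

/-- The case `p = 2`. -/
theorem Hyp.isoSuzuki (hH : Hyp P)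
    (hd : ¬ (Cfsg.IsElementaryAbelian 2 (P : Subgroup G) ∧
      ∀ x ∈ (P : Subgroup G), ∀ y ∈ (P : Subgroup G), x ≠ 1 → y ≠ 1 → ∃ g : G, g * x * g⁻¹ = y)) :
    Lie.IsoSuzuki G := by
  obtain ⟨E, hn, hs, hnc, hC, h2E⟩ := hH.exists_simple
  haveI := hn
  obtain ⟨Q, -, hQm⟩ := exists_sylow_inf P E
  have hE : Socle P E Q := ⟨hn, hs, hnc, hC, hQm⟩
  by_cases hr : Cfsg.PRankLE 2 2 E
  · exact (hH.false_of_rankTwo hE h2E hr hd).elim
  obtain ⟨hPE, ⟨F, iF, iF', m, hm, hF, ⟨e⟩⟩, T, hTH⟩ := hH.suzuki_of_rank hE h2E hr hd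
  have htop := hH.socle_eq_top hE h2E hPE T hTH
  exact ⟨F, iF, iF', m, hm, hF, ⟨(topEquiv.symm.trans (MulEquiv.subgroupCongr htop.symm)).trans e⟩⟩

end Cfsg.Agent.LocalFusionSuz
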